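import Mathlib
import Cfsg.Agent.Lib.ChDeg.Ito
import Cfsg.Agent.Lib.ChDeg.SylNorm
import Cfsg.Agent.Lib.Coprime.Sylow
import Cfsg.Agent.Lib.SolvStruct.Primitive

/-! Actions in which every point stabiliser contains exactly one Sylow `t`-subgroup. -/

set_option autoImplicit false

namespace CfsgLib.Palfy

open Cfsg CfsgLib.ChDeg CfsgLib.Core Subgroup MulAction
open scoped Pointwise

variable {Γ : Type*} [Group Γ] {t : ℕ}

/-- `T` has index prime to `t` and all its character degrees are prime to `t`. -/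
def NC (t : ℕ) (T : Subgroup Γ) : Prop := ¬ t ∣ T.index ∧ PD t T

theorem NC.subgroupOf {I T : Subgroup Γ} (h : NC t I) (hIT : I ≤ T) : NC t (I.subgroupOf T) :=
  ⟨fun e => h.1 (e.trans (relIndex_dvd_index_of_le hIT)),
    h.2.of_surjective (subgroupOfEquivOfLe hIT).symm.toMonoidHom (subgroupOfEquivOfLe hIT).symm.surjective⟩

theorem NC.map {Δ : Type*} [Group Δ] {T : Subgroup Γ} (h : NC t T) (f : Γ →* Δ) (hf : Function.Surjective f) :
    NC t (T.map f) :=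
  ⟨fun e => h.1 (e.trans (index_map_dvd T hf)), h.2.of_surjective (f.subgroupMap T) (f.subgroupMap_surjective T)⟩

theorem le_stab_smul {Ω : Type*} [MulAction Γ Ω] {P : Sylow t Γ} {w : Ω} (g : Γ)
    (h : (P : Subgroup Γ) ≤ stabilizer Γ w) : ((g • P : Sylow t Γ) : Subgroup Γ) ≤ stabilizer Γ (g • w) := by
  intro x hx
  rw [Sylow.coe_subgroup_smul, mem_conj_smul_iff] at hx
  have h1 := mem_stabilizer_iff.1 (h hx)
  rw [mul_smul, mul_smul, inv_smul_eq_iff] at h1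
  exact h1

variable [Finite Γ] [ht : Fact t.Prime]

theorem count {Ω : Type*} [MulAction Γ Ω] (S : Set Ω) (hS : ∀ g : Γ, ∀ w ∈ S, g • w ∈ S)
    (h : ∀ w ∈ S, ∃! P : Sylow t Γ, (P : Subgroup Γ) ≤ stabilizer Γ w) (P : Sylow t Γ) :
    Nat.card S = Nat.card (Sylow t Γ) * Nat.card {w // w ∈ S ∧ (P : Subgroup Γ) ≤ stabilizer Γ w} := by
  choose g hg using fun Q : Sylow t Γ => MulAction.exists_smul_eq Γ P Q
  rw [← Nat.card_prod]
  refine (Nat.card_congr (Equiv.ofBijective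
    (fun x : Sylow t Γ × {w // w ∈ S ∧ (P : Subgroup Γ) ≤ stabilizer Γ w} =>
      (⟨g x.1 • x.2.1, hS _ _ x.2.2.1⟩ : S)) ⟨?_, ?_⟩)).symm
  · rintro ⟨Q, w, hw, h1⟩ ⟨Q', w', hw', h2⟩ e
    have e1 : g Q • w = g Q' • w' := congrArg Subtype.val e
    have h3 := le_stab_smul (g Q) h1
    have h4 := le_stab_smul (g Q') h2
    rw [hg] at h3 h4
    obtain rfl : Q = Q' := (h _ (hS (g Q) w hw)).unique h3 (e1 ▸ h4)
    obtain rfl : w = w' := smul_left_cancel _ e1
    rfl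
  · rintro ⟨w, hw⟩
    obtain ⟨Q, h1, -⟩ := h w hw
    have h2 := le_stab_smul (g Q)⁻¹ h1
    rw [inv_smul_eq_iff.2 (hg Q).symm] at h2
    exact ⟨⟨Q, ⟨_, hS _ _ hw, h2⟩⟩, Subtype.ext (smul_inv_smul _ _)⟩

section solv

variable [Group.IsSolvable Γ]

theorem NC.eq_map {T : Subgroup Γ} (h : NC t T) {P : Sylow t Γ} (hP : (P : Subgroup Γ) ≤ T) :
    (P : Subgroup Γ) = (pCore t T).map T.subtype := by
  rw [← sylow_normal_of_not_dvd_index_pCore (h.2.not_dvd_index_pCore PLocal.PSolv.of_isSolvable) (P.subtype hP),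
    Sylow.coe_subtype, map_subgroupOf_eq_of_le hP]

theorem NC.unique {T : Subgroup Γ} (h : NC t T) : ∃! P : Sylow t Γ, (P : Subgroup Γ) ≤ T := by
  obtain ⟨P, hP⟩ := exists_sylow_le h.1
  exact ⟨P, hP, fun Q hQ => Sylow.ext ((h.eq_map hQ).trans (h.eq_map hP).symm)⟩

theorem NC.comm {T : Subgroup Γ} (h : NC t T) (P : Sylow t Γ) :
    ∀ a ∈ (P : Subgroup Γ), ∀ b ∈ (P : Subgroup Γ), a * b = b * a := by
  obtain ⟨Q, hQ⟩ := exists_sylow_le h.1
  obtain ⟨g, rfl⟩ := MulAction.exists_smul_eq Γ Q P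
  intro a ha b hb
  rw [Sylow.coe_subgroup_smul, mem_conj_smul_iff] at ha hb
  have h1 := h.2.comm_of_pSolvable PLocal.PSolv.of_isSolvable (Q.isPGroup'.comap_subtype (K := T))
    ⟨_, hQ ha⟩ ha ⟨_, hQ hb⟩ hb
  have h2 : g⁻¹ * a * b = g⁻¹ * b * a := by simpa [← mul_assoc] using congrArg Subtype.val h1
  simpa [mul_assoc] using h2

/-- A Sylow subgroup inside a normal subgroup of `Γ` contained in `T` is normal. -/
theorem NC.normal {T C : Subgroup Γ} [hC : C.Normal] (h : NC t T) (hCT : C ≤ T) {P : Sylow t Γ}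
    (hP : (P : Subgroup Γ) ≤ C) : (P : Subgroup Γ).Normal := by
  refine @Sylow.normal_of_subsingleton _ _ _ ⟨fun A B => ?_⟩ P
  have h1 : ∀ Q : Sylow t Γ, (Q : Subgroup Γ) ≤ T := fun Q => by
    obtain ⟨g, rfl⟩ := MulAction.exists_smul_eq Γ P Q
    intro x hx
    rw [Sylow.coe_subgroup_smul, mem_conj_smul_iff] at hx
    simpa [mul_assoc] using hCT (hC.conj_mem _ (hP hx) g)
  exact h.unique.unique (h1 A) (h1 B)

theorem count_sub {W : Type*} [Group W] [Finite W] [MulDistribMulAction Γ W] (U : Subgroup W)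
    (hU : ∀ g : Γ, ∀ w ∈ U, g • w ∈ U) (h : ∀ w ∈ U, w ≠ 1 → NC t (stabilizer Γ w)) (P : Sylow t Γ) :
    Nat.card U - 1 =
      Nat.card (Sylow t Γ) * (Nat.card (U ⊓ FixedPoints.subgroup (P : Subgroup Γ) W : Subgroup W) - 1) := by
  have key : ∀ V : Subgroup W, Nat.card V - 1 = Nat.card {w // w ∈ V ∧ w ≠ 1} := fun V => by
    have h1 := Set.ncard_diff_singleton_of_mem (s := (V : Set W)) V.one_mem
    rw [← Nat.card_coe_set_eq, ← Nat.card_coe_set_eq] at h1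
    exact h1.symm
  rw [key, key]
  have h1 := count (t := t) {w | w ∈ U ∧ w ≠ 1} (fun g w hw => ⟨hU g w hw.1, fun e => hw.2 (by
    rw [← inv_smul_smul g w, e, smul_one])⟩) (fun w hw => (h w hw.1 hw.2).unique) P
  refine h1.trans (congrArg _ (Nat.card_congr (Equiv.subtypeEquivRight fun w => ?_)))
  exact ⟨fun h => ⟨⟨h.1.1, fun g => h.2 g.2⟩, h.1.2⟩, fun h => ⟨⟨h.1.1, h.2⟩, fun g hg => h.1.2 ⟨g, hg⟩⟩⟩

theorem normal_sup_pPrimeCore (P : Sylow t Γ)
    (hP : ∀ a ∈ (P : Subgroup Γ), ∀ b ∈ (P : Subgroup Γ), a * b = b * a) :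
    ((P : Subgroup Γ) ⊔ pPrimeCore t Γ).Normal := by
  set N := pPrimeCore t Γ
  let Q := P.mapSurjective (QuotientGroup.mk'_surjective N)
  have h1 : (Q : Subgroup (Γ ⧸ N)) ≤ pCore t (Γ ⧸ N) := by
    refine le_trans ?_ (PLocal.PSolv.centralizer_pCore_le PLocal.PSolv.of_isSolvable
      (pPrimeCore_quotient_pPrimeCore t Γ))
    rintro _ ⟨a, ha, rfl⟩ y hy
    obtain ⟨b, hb, rfl⟩ := pCore_le_sylow Q hy
    rw [← map_mul, ← map_mul, hP b hb a ha]
  rw [← sylow_le_sup_of_quotient N (fun e => Q.not_dvd_index (e.trans (index_dvd_of_le h1))) P]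
  infer_instance

/-- A prime divisor `l` of the number of (abelian) Sylow `t`-subgroups gives an `l`-group moved by `P`. -/
theorem exists_moved (P : Sylow t Γ) (hP : ∀ a ∈ (P : Subgroup Γ), ∀ b ∈ (P : Subgroup Γ), a * b = b * a)
    {l : ℕ} [hl : Fact l.Prime] (hd : l ∣ Nat.card (Sylow t Γ)) :
    ∃ D : Subgroup Γ, IsPGroup l D ∧ (P : Subgroup Γ) ≤ normalizer (D : Set Γ) ∧
      ¬ D ≤ centralizer ((P : Subgroup Γ) : Set Γ) := by
  have hn := normal_sup_pPrimeCore P hP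
  set N := pPrimeCore t Γ
  obtain ⟨D, h1, h2, h3, h4⟩ := Coprime.exists_invariant_sylow' l (K := N) (A := P) le_normalizer_of_normal
    (isPGroup_coprime_card P.isPGroup' (coprime_card_pPrimeCore t Γ)) (.inr inferInstance)
  refine ⟨D, h2, h4, fun e => h3 ?_⟩
  have h5 : normalizer ((P : Subgroup Γ) : Set Γ) ⊔ N = ⊤ := by
    rw [eq_top_iff, ← Sylow.normalizer_sup_eq_top' P (le_sup_left : (P : Subgroup Γ) ≤ (P : Subgroup Γ) ⊔ N)]
    exact sup_le le_sup_left (sup_le (le_normalizer.trans le_sup_left) le_sup_right)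
  have h6 : l ∣ (normalizer ((P : Subgroup Γ) : Set Γ)).index := P.card_eq_index_normalizer ▸ hd
  rw [← relIndex_top_right, ← h5, relIndex_sup_of_normal, ← inf_relIndex_right] at h6
  exact h6.trans (relIndex_dvd_of_le_left _ (le_inf (e.trans (centralizer_le_normalizer _)) h1))

theorem exists_pow (P : Sylow t Γ) (hP : ∀ a ∈ (P : Subgroup Γ), ∀ b ∈ (P : Subgroup Γ), a * b = b * a)
    {l : ℕ} [hl : Fact l.Prime] (hd : l ∣ Nat.card (Sylow t Γ)) :
    ∃ e, 0 < e ∧ l ^ e ≤ Nat.card (Sylow t Γ) ∧ l ^ e ≡ 1 [MOD t] := by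
  obtain ⟨D, h1, h2, h3⟩ := exists_moved P hP hd
  have hlt : t ≠ l := by
    rintro rfl
    exact not_dvd_card_sylow t Γ hd
  have hc : (Nat.card D).Coprime t := coprime_card_of_isPGroup hlt h1
  have h4 := card_inf_mul_relIndex (centralizer ((P : Subgroup Γ) : Set Γ)) D
  obtain ⟨k, hk⟩ := h1.exists_card_eq
  obtain ⟨e, -, he⟩ := (Nat.dvd_prime_pow hl.out).1 (hk ▸ Dvd.intro_left _ h4)
  refine ⟨e, Nat.pos_of_ne_zero ?_, ?_, ?_⟩
  · rintro rfl
    exact h3 (relIndex_eq_one.1 (by simpa using he))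
  · have h5 : normalizer ((P : Subgroup Γ) : Set Γ) ⊓ D = centralizer ((P : Subgroup Γ) : Set Γ) ⊓ D := by
      refine le_antisymm (le_inf (le_centralizer_of_le_normalizer_of_disjoint inf_le_left
        (Coprime.le_normalizer_inf (le_normalizer.trans le_normalizer) h2) ?_)
        inf_le_right) (inf_le_inf_right _ (centralizer_le_normalizer _))
      rw [eq_bot_iff, ← isPGroup_inf_eq_bot_of_coprime P.isPGroup' hc, inf_comm]
      exact inf_le_inf_left _ inf_le_right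
    rw [← he, ← inf_relIndex_right, ← h5, inf_relIndex_right, P.card_eq_index_normalizer, ← relIndex_top_right]
    exact relIndex_le_of_le_right le_top (by simp [index_ne_zero_of_finite])
  · have h5 := SolvStruct.card_modEq_card_inf_centralizer P.isPGroup' h2
    rw [← h4, he, inf_comm] at h5
    exact Nat.ModEq.cancel_left_of_coprime
      (hc.coprime_dvd_left (card_dvd_of_le inf_le_left)).symm (by rwa [mul_one])

end solv

omit [Finite Γ] ht in
theorem exists_not_mem_two {W : Type*} [Group W] {A B : Subgroup W} (hA : A ≠ ⊤) (hB : B ≠ ⊤) :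
    ∃ w, w ∉ A ∧ w ∉ B := by
  obtain ⟨a, ha⟩ : ∃ a, a ∉ A := by simpa [eq_top_iff'] using hA
  obtain ⟨b, hb⟩ : ∃ b, b ∉ B := by simpa [eq_top_iff'] using hB
  by_cases h1 : a ∈ B
  · by_cases h2 : b ∈ A
    · exact ⟨a * b, fun e => ha ((A.mul_mem_cancel_right h2).1 e), fun e => hb ((B.mul_mem_cancel_left h1).1 e)⟩
    · exact ⟨b, h2, hb⟩
  · exact ⟨a, ha, h1⟩

theorem dvd_index_of_moved {Ω : Type*} [MulAction Γ Ω] (C : Subgroup Γ) (P : Sylow t Γ)
    [hn : ((P : Subgroup Γ) ⊔ C).Normal] {w : Ω} (hC : C ≤ stabilizer Γ w)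
    (hC' : ∀ g : Γ, C ≤ stabilizer Γ (g • w)) (h : ¬ (P : Subgroup Γ) ≤ stabilizer Γ w) :
    t ∣ (stabilizer Γ w).index := by
  by_contra e
  obtain ⟨Q, hQ⟩ := exists_sylow_le e
  obtain ⟨g, rfl⟩ := MulAction.exists_smul_eq Γ Q P
  have h1 := sup_le (le_stab_smul g hQ) (hC' g)
  refine h fun x hx => ?_
  have h2 := mem_stabilizer_iff.1 (h1 (hn.conj_mem x (mem_sup_left hx) g))
  rw [mul_smul, mul_smul, inv_smul_smul] at h2
  exact smul_left_cancel g h2

/-- Two primes whose Sylow subgroups are normal modulo a trivially acting subgroup and act nontrivially. -/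
theorem exists_two_dvd {W : Type*} [Group W] [MulDistribMulAction Γ W] {u : ℕ} [hu : Fact u.Prime] (htu : t ≠ u)
    (C : Subgroup Γ) (hC : ∀ w : W, C ≤ stabilizer Γ w) (P : Sylow t Γ) (Q : Sylow u Γ)
    [((P : Subgroup Γ) ⊔ C).Normal] [((Q : Subgroup Γ) ⊔ C).Normal]
    (hP : ¬ ∀ w : W, (P : Subgroup Γ) ≤ stabilizer Γ w) (hQ : ¬ ∀ w : W, (Q : Subgroup Γ) ≤ stabilizer Γ w) :
    ∃ w : W, t * u ∣ (stabilizer Γ w).index := by
  obtain ⟨w, h1, h2⟩ := exists_not_mem_two (A := FixedPoints.subgroup (P : Subgroup Γ) W)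
    (B := FixedPoints.subgroup (Q : Subgroup Γ) W)
    (fun e => hP fun w g hg => (e ▸ mem_top w : w ∈ FixedPoints.subgroup (P : Subgroup Γ) W) ⟨g, hg⟩)
    (fun e => hQ fun w g hg => (e ▸ mem_top w : w ∈ FixedPoints.subgroup (Q : Subgroup Γ) W) ⟨g, hg⟩)
  exact ⟨w, ((Nat.coprime_primes ht.out hu.out).2 htu).mul_dvd_of_dvd_of_dvd
    (dvd_index_of_moved C P (hC w) (fun _ => hC _) fun e => h1 fun g => e g.2)
    (dvd_index_of_moved C Q (hC w) (fun _ => hC _) fun e => h2 fun g => e g.2)⟩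

/-- The arithmetic of two `r`-groups with the same number of blocks. -/
theorem pow_le_pow_of_count {r n a b c d : ℕ} (hr : r.Prime) (hn : n ≠ 1) (hb : 0 < b)
    (h1 : r ^ a - 1 = n * (r ^ c - 1)) (h2 : r ^ b - 1 = n * (r ^ d - 1)) : r ^ a ≤ r ^ b := by
  have h0 : ∀ k, 1 ≤ r ^ k := fun k => Nat.one_le_pow _ _ hr.pos
  by_cases hcd : c ≤ d
  · have h3 := Nat.mul_le_mul_left n (Nat.sub_le_sub_right (Nat.pow_le_pow_right hr.pos hcd) 1)
    have := h0 a
    have := h0 b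
    omega
  exfalso
  push Not at hcd
  have hb1 : 1 < r ^ b := Nat.one_lt_pow hb.ne' hr.one_lt
  have hd : 0 < d := Nat.pos_of_ne_zero (by rintro rfl; simp at h2; omega)
  have hn2 : 2 ≤ n := by
    rcases n with _ | _ | n
    · omega
    · exact (hn rfl).elim
    · omega
  have key : ∀ a c, 0 < c → r ^ a - 1 = n * (r ^ c - 1) → c < a := fun a c hc h => by
    have h3 : 1 < r ^ c := Nat.one_lt_pow hc.ne' hr.one_lt
    have h4 := Nat.mul_le_mul_right (r ^ c - 1) hn2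
    exact (Nat.pow_lt_pow_iff_right hr.one_lt).1 (by omega)
  obtain ⟨i, rfl⟩ := Nat.exists_eq_add_of_lt hcd
  obtain ⟨j, rfl⟩ := Nat.exists_eq_add_of_lt (key a _ (by omega) h1)
  obtain ⟨k, rfl⟩ := Nat.exists_eq_add_of_lt (key b _ hd h2)
  obtain ⟨m, rfl⟩ := Nat.exists_eq_add_of_lt hd
  zify [h0] at h1 h2
  have h3 : (r : ℤ) ^ (0 + m + 1) * (n * (r ^ (i + 1) - 1) - (r ^ (i + 1 + j + 1) - r ^ (k + 1))) = 0 := by
    linear_combination h2 - h1
  have h4 := (mul_eq_zero.1 h3).resolve_left (pow_ne_zero _ (by exact_mod_cast hr.ne_zero))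
  have h5 : (r : ℤ) ∣ n := ⟨n * r ^ i - (r ^ (i + 1 + j) - r ^ k), by linear_combination -h4⟩
  obtain ⟨x, hx⟩ := h5
  have h6 : (r : ℤ) ∣ 1 := ⟨r ^ (0 + m + 1 + k) - x * (r ^ (0 + m + 1) - 1), by
    rw [hx] at h2; linear_combination -h2⟩
  exact hr.one_lt.ne' (by exact_mod_cast Int.eq_one_of_dvd_one (by positivity) h6)

end CfsgLib.Palfy
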