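import Mathlib
import Cfsg.Agent.Lib.Palfy.Count
import Cfsg.Agent.Lib.SqF.Main
import Cfsg.Agent.Lib.Flav.Q5
import Cfsg.Agent.Lib.Spec.Zsig
import Cfsg.Agent.Lib.Frob.Complement

/-! A solvable linear group in which every vector centraliser has a unique Sylow `p`- and a unique Sylow
`q`-subgroup of the whole group has a character degree divisible by `p q`. -/

set_option autoImplicit false

namespace CfsgLib.Palfy

open Cfsg CfsgLib.Char CfsgLib.ChDeg CfsgLib.RelDeg CfsgLib.Core Subgroup MulAction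
open scoped commutatorElement

/-- Some irreducible degree is divisible by `p q`. -/
def Adj (G : Type*) [Group G] (p q : ℕ) : Prop := ∃ χ : G → ℂ, IsIrrCharacter G χ ∧ p * q ∣ charDegree χ

section adj

variable {G : Type*} [Group G] {p q : ℕ}

theorem Adj.symm (h : Adj G p q) : Adj G q p := by
  obtain ⟨χ, h1, h2⟩ := h
  exact ⟨χ, h1, mul_comm p q ▸ h2⟩

theorem Adj.of_surjective {Q : Type*} [Group Q] (f : G →* Q) (hf : Function.Surjective f) (h : Adj Q p q) :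
    Adj G p q := by
  obtain ⟨χ, h1, h2⟩ := h
  exact ⟨_, isIrr_comp_of_surjective f hf h1, by rwa [deg_comp]⟩

theorem adj_of_lin [Finite G] {N : Subgroup G} [N.Normal] (l : Lin N) (h : p * q ∣ (stabilizer G l).index) :
    Adj G p q := by
  have := Fintype.ofFinite N
  obtain ⟨χ, hχ, h1⟩ := exists_irr_over N (isIrr_co l)
  exact ⟨χ, hχ, h.trans (inertia_co l ▸ index_inertia_dvd N hχ (isIrr_co l) h1)⟩

end adj

variable {Γ : Type*} [Group Γ] [Finite Γ] {W : Type*} [CommGroup W] [Finite W] [MulDistribMulAction Γ W]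

theorem card_modEq_fixed {l : ℕ} [Fact l.Prime] {A : Subgroup Γ} (hA : IsPGroup l A) (U : Subgroup W)
    (hU : ∀ g ∈ A, ∀ w ∈ U, g • w ∈ U) :
    Nat.card U ≡ Nat.card (U ⊓ FixedPoints.subgroup A W : Subgroup W) [MOD l] := by
  let X : SubMulAction A W := ⟨U, fun g _ hw => hU g g.2 _ hw⟩
  refine (hA.card_modEq_card_fixedPoints X).trans (Eq.subst (motive := fun m => _ ≡ m [MOD l]) ?_ rfl)
  exact Nat.card_congr ⟨fun x => ⟨x.1.1, x.1.2, fun g => congrArg Subtype.val (x.2 g)⟩,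
    fun x => ⟨⟨x.1, x.2.1⟩, fun g => Subtype.ext (x.2.2 g)⟩, fun _ => rfl, fun _ => rfl⟩

/-- The action as a linear representation. -/
def rep (s : ℕ) (Γ W : Type*) [Group Γ] [CommGroup W] [MulDistribMulAction Γ W] [Module (ZMod s) (Additive W)] :
    Representation (ZMod s) Γ (Additive W) where
  toFun g := (Representation.ofMulDistribMulAction Γ W g).toAddMonoidHom.toZModLinearMap s
  map_one' := LinearMap.ext fun w => one_smul Γ w.toMul
  map_mul' g h := LinearMap.ext fun w => mul_smul g h w.toMul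

variable {s n : ℕ} [hs : Fact s.Prime] (hf : ∀ g : Γ, (∀ w : W, g • w = w) → g = 1) (hn : Nat.card W = s ^ n)

include hn in
theorem card_sub (U : Subgroup W) : ∃ k ≤ n, Nat.card U = s ^ k :=
  (Nat.dvd_prime_pow hs.out).1 (hn ▸ card_subgroup_dvd_card U)

section zsig

variable {l : ℕ} [hl : Fact l.Prime] (h1 : l ∣ s ^ n - 1) (h2 : ∀ k, 0 < k → k < n → ¬ l ∣ s ^ k - 1)
include hn h2

theorem bot_or_top (U : Subgroup W) (h : Nat.card U ≡ 1 [MOD l]) : U = ⊥ ∨ U = ⊤ := by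
  obtain ⟨k, hk, e⟩ := card_sub hn U
  rcases k.eq_zero_or_pos with rfl | h0
  · exact .inl (card_eq_one.1 (by simpa using e))
  rcases hk.eq_or_lt with rfl | h3
  · exact .inr (eq_top_of_card_eq _ (e.trans hn.symm))
  exact (h2 k h0 h3 ((Nat.modEq_iff_dvd' (Nat.one_le_pow _ _ hs.out.pos)).1 (e ▸ h).symm)).elim

include hf h1

theorem fixed_eq_bot {A : Subgroup Γ} (hA : IsPGroup l A) (hA1 : A ≠ ⊥) : FixedPoints.subgroup A W = ⊥ := by
  have h3 := card_modEq_fixed hA (⊤ : Subgroup W) fun _ _ _ _ => mem_top _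
  rw [top_inf_eq, card_top, hn] at h3
  refine (bot_or_top hn h2 _ (h3.symm.trans
    ((Nat.modEq_iff_dvd' (Nat.one_le_pow _ _ hs.out.pos)).2 h1).symm)).resolve_right fun e => hA1 ?_
  exact eq_bot_iff.2 fun g hg => hf g fun w => (e ▸ mem_top w : w ∈ FixedPoints.subgroup A W) ⟨g, hg⟩

theorem fpf {a : Γ} (ha : IsPGroup l (zpowers a)) (ha1 : a ≠ 1) {w : W} (h : a • w = w) : w = 1 := by
  rw [← mem_bot, ← fixed_eq_bot hf hn h1 h2 ha (by simpa using ha1)]
  exact fun g => (zpowers_le.2 (show a ∈ stabilizer Γ w from h)) g.2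

theorem irred {a : Γ} (ha : IsPGroup l (zpowers a)) (ha1 : a ≠ 1) (U : Subgroup W) (hU : ∀ w ∈ U, a • w ∈ U) :
    U = ⊥ ∨ U = ⊤ := by
  have h3 := card_modEq_fixed ha U fun g hg w hw => by
    obtain ⟨k, rfl⟩ := (mem_powers_iff_mem_zpowers.2 hg)
    induction k with
    | zero => simpa using hw
    | succ k ih => simpa [pow_succ', mul_smul] using hU _ (ih (npow_mem_zpowers a k))
  rw [fixed_eq_bot hf hn h1 h2 ha (by simpa using ha1), inf_bot_eq, card_bot] at h3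
  exact bot_or_top hn h2 U h3

theorem pq [Nontrivial W] (hW : ∀ w : W, w ^ s = 1) (hls : l ≠ s) {D : Subgroup Γ} (hD : IsPGroup l D) :
    Frob.PQCond D := fun x y hx hy hxy => by
  have h3 : ∀ z : D, (orderOf z).Prime → orderOf z = l := fun z hz => by
    obtain ⟨k, hk⟩ := hD z
    exact (Nat.prime_dvd_prime_iff_eq hz hl.out).1 (hz.dvd_of_dvd_pow (orderOf_dvd_of_pow_eq_one hk))
  have h4 := Frob.commute_of_orderOf_eq_prime hx ((h3 x hx).trans (h3 y hy).symm) hxy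
  refine ⟨h4, fun _ => by_contra fun e => ?_⟩
  obtain ⟨w, hw⟩ := exists_ne (1 : W)
  have h5 := Frob.pow_eq_one_of_fpf_rank_two (MulDistribMulAction.toMulAut D W)
    (fun a ha v hv => fpf hf hn h1 h2 (hD.to_le (zpowers_le.2 a.2)) (fun e => ha (Subtype.ext e)) hv)
    hl.out h4.symm (h3 x hx) (h3 y hy ▸ pow_orderOf_eq_one y) e w
  exact hw (orderOf_eq_one_iff.1 (Nat.eq_one_of_dvd_coprimes ((Nat.coprime_primes hl.out hs.out).2 hls)
    (orderOf_dvd_of_pow_eq_one h5) (orderOf_dvd_of_pow_eq_one (hW w))))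

theorem shult' [Nontrivial W] (hW : ∀ w : W, w ^ s = 1) {a : Γ} (ha : a ^ l = 1) (ha1 : a ≠ 1)
    (N : Subgroup Γ) [N.Normal] (hN : ¬ l ∣ Nat.card N) (hne : ⁅N, zpowers a⁆ ≠ ⊥) : ∃ m, l = 2 ^ m + 1 := by
  obtain ⟨_⟩ : Nonempty (Module (ZMod s) (Additive W)) := ⟨AddCommGroup.zmodModule fun x => hW x.toMul⟩
  have hp : IsPGroup l (zpowers a) := isPGroup_zpowers_iff.2 ⟨1, by rwa [pow_one]⟩
  obtain ⟨q, e, h⟩ := Flav.shult (p := s) (rep s Γ W) hl.out ha (fun v hv => fpf hf hn h1 h2 hp ha1 (w := v.toMul) hv)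
    (G := N) (le_normalizer_of_normal (mem_top a)) hN
    (fun g hg => hf g fun w => LinearMap.congr_fun hg (Additive.ofMul w))
    (fun U _ hU => by
      rcases irred hf hn h1 h2 hp ha1 U.toAddSubgroup.toSubgroup' (fun w hw => hU _ hw) with e | e
      · exact .inl (eq_bot_iff.2 fun v hv => (e.le (show v.toMul ∈ _ from hv) : v.toMul ∈ (⊥ : Subgroup W)))
      · exact .inr (eq_top_iff.2 fun v _ => (e.ge (mem_top v.toMul)))) hne
  obtain ⟨m, -, rfl⟩ := h.pow
  exact ⟨m, e⟩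

variable [Group.IsSolvable Γ] [Nontrivial W] (hW : ∀ w : W, w ^ s = 1) (hn1 : 1 < n)
include hW hn1

omit [Group.IsSolvable Γ] in
theorem isCyclic_of {D : Subgroup Γ} (hD : IsPGroup l D) : IsCyclic D ∧ ∀ x ∈ D, ∀ y ∈ D,
    orderOf x = l → orderOf y = l → y ∈ zpowers x := by
  have h0 := Nat.one_le_pow n s hs.out.pos
  have hls : l ≠ s := by
    rintro rfl
    exact hl.out.one_lt.ne' (Nat.dvd_one.1 ((Nat.dvd_sub_iff_right h0 (dvd_pow_self _ (by omega))).1 h1))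
  have hl2 : l ≠ 2 := by
    rintro rfl
    refine h2 1 one_pos hn1 ?_
    obtain ⟨k, rfl⟩ := hs.out.odd_of_ne_two hls.symm
    simp
  have h3 := pq hf hn h1 h2 hW hls hD
  have h4 := h3.isCyclic_of_odd hD hl2
  refine ⟨h4, fun x hx y hy e1 e2 => ?_⟩
  obtain ⟨k, hk⟩ := h3.mem_zpowers_of_commute hl.out (x := ⟨x, hx⟩) (y := ⟨y, hy⟩) (by simpa using e1)
    (by simpa using e2) (h4.commGroup.mul_comm _ _)
  exact ⟨k, congrArg Subtype.val hk⟩

omit [Group.IsSolvable Γ] in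
theorem exists_moved_elt {t : ℕ} [Fact t.Prime] (htl : t ≠ l) {P D : Subgroup Γ} (hP : IsPGroup t P)
    (hD : IsPGroup l D) (h3 : P ≤ normalizer (D : Set Γ)) (h4 : ¬ D ≤ centralizer (P : Set Γ)) :
    t ∣ l - 1 ∧ ∃ a, orderOf a = l ∧ a ∉ centralizer (P : Set Γ) := by
  obtain ⟨hc, hz⟩ := isCyclic_of hf hn h1 h2 hW hn1 hD
  have : IsMulCommutative D := ⟨⟨hc.commGroup.mul_comm⟩⟩
  obtain ⟨a, ha, ho, hm⟩ : ∃ a ∈ D, (orderOf a).Prime ∧ a ∉ centralizer (P : Set Γ) := by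
    by_contra! e
    exact h4 (le_centralizer_iff.1 (Coprime.le_centralizer_of_forall_prime_orderOf h3
      (isPGroup_coprime_card hP (coprime_card_of_isPGroup htl hD)) fun v hv hv' g hg => e v hv hv' g hg))
  have hol : orderOf a = l := by
    obtain ⟨k, hk⟩ := isPGroup_subgroup_iff.1 hD a ha
    exact (Nat.prime_dvd_prime_iff_eq ho hl.out).1 (ho.dvd_of_dvd_pow (orderOf_dvd_of_pow_eq_one hk))
  refine ⟨?_, a, hol, hm⟩
  have h5 : P ≤ normalizer ((zpowers a : Subgroup Γ) : Set Γ) := fun g hg =>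
    mem_normalizer_of_forall_conj_mem fun x hx => by
      obtain ⟨k, rfl⟩ := hx
      rw [← conj_zpow]
      exact zpow_mem (hz a ha _ (Coprime.conj_mem_of_le_normalizer h3 hg ha) hol
        (((MulAut.conj g).orderOf_eq a).trans hol)) k
  have h6 := SolvStruct.card_modEq_card_inf_centralizer hP h5
  have h7 := card_dvd_of_le (inf_le_left : zpowers a ⊓ centralizer (P : Set Γ) ≤ zpowers a)
  rw [Nat.card_zpowers, hol] at h6 h7
  rw [((Nat.dvd_prime hl.out).1 h7).resolve_right fun e => hm (inf_eq_left.1 (eq_of_le_of_card_le inf_le_left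
    (by rw [e, Nat.card_zpowers, hol])) (mem_zpowers a))] at h6
  exact (Nat.modEq_iff_dvd' hl.out.pos).1 h6.symm

theorem mem_pCore (hm : ∀ m, l ≠ 2 ^ m + 1) {a : Γ} (ha : orderOf a = l) : a ∈ pCore l Γ := by
  have h3 : a ^ l = 1 := ha ▸ pow_orderOf_eq_one a
  have hp : IsPGroup l (zpowers a) := isPGroup_zpowers_iff.2 ⟨1, by rwa [pow_one]⟩
  refine le_pCore_of_le_fittingSubgroup (le_trans ?_ centralizer_fittingSubgroup_le) hp (mem_zpowers a)
  rw [le_centralizer_iff, fittingSubgroup_eq_pCore_sup hl.out]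
  refine sup_le ?_ (inf_le_left.trans (commutator_eq_bot_iff_le_centralizer.1 (by_contra fun e => ?_)))
  · have h4 := (isCyclic_of hf hn h1 h2 hW hn1 (hp.to_sup_of_normal_right (isPGroup_pCore l Γ))).1
    exact fun x hx y hy => congrArg Subtype.val (h4.commGroup.mul_comm ⟨y, mem_sup_left hy⟩ ⟨x, mem_sup_right hx⟩)
  · obtain ⟨m, e⟩ := shult' hf hn h1 h2 hW h3 (by rintro rfl; exact hl.out.one_lt.ne (orderOf_one.symm.trans ha))
      _ (not_dvd_card_pPrimeCore hl.out Γ) e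
    exact hm m e

theorem adj_of_zsig {p q : ℕ} [hp : Fact p.Prime] [hq : Fact q.Prime] (hpq : p ≠ q) (P : Sylow p Γ) (Q : Sylow q Γ)
    (hP : ∀ a ∈ (P : Subgroup Γ), ∀ b ∈ (P : Subgroup Γ), a * b = b * a)
    (hQ : ∀ a ∈ (Q : Subgroup Γ), ∀ b ∈ (Q : Subgroup Γ), a * b = b * a)
    (hdp : l ∣ Nat.card (Sylow p Γ)) (hdq : l ∣ Nat.card (Sylow q Γ)) : Adj Γ p q := by
  have key : ∀ {t : ℕ} [Fact t.Prime] (T : Sylow t Γ),
      (∀ a ∈ (T : Subgroup Γ), ∀ b ∈ (T : Subgroup Γ), a * b = b * a) → l ∣ Nat.card (Sylow t Γ) →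
      t ≠ l ∧ t ∣ l - 1 ∧ ∃ a, orderOf a = l ∧ a ∉ centralizer ((T : Subgroup Γ) : Set Γ) := by
    intro t _ T hT hd
    have htl : t ≠ l := by
      rintro rfl
      exact not_dvd_card_sylow t Γ hd
    obtain ⟨D, h3, h4, h5⟩ := exists_moved T hT hd
    exact ⟨htl, exists_moved_elt hf hn h1 h2 hW hn1 htl T.isPGroup' h3 h4 h5⟩
  obtain ⟨p1, p2, a, p3, p4⟩ := key P hP hdp
  obtain ⟨q1, q2, b, q3, q4⟩ := key Q hQ hdq
  have hm : ∀ m, l ≠ 2 ^ m + 1 := by
    rintro m rfl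
    exact hpq (((Nat.prime_dvd_prime_iff_eq hp.out Nat.prime_two).1 (hp.out.dvd_of_dvd_pow p2)).trans
      ((Nat.prime_dvd_prime_iff_eq hq.out Nat.prime_two).1 (hq.out.dvd_of_dvd_pow q2)).symm)
  have hO := isPGroup_pCore l Γ
  have := (isCyclic_of hf hn h1 h2 hW hn1 hO).1
  have hC := SolvStruct.commutator_le_centralizer_of_cyclic (pCore l Γ)
  have key2 : ∀ {t : ℕ} [Fact t.Prime] (T : Sylow t Γ), t ≠ l → ∀ a, orderOf a = l →
      a ∉ centralizer ((T : Subgroup Γ) : Set Γ) →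
      ¬ ∀ w : Lin (pCore l Γ), (T : Subgroup Γ) ≤ stabilizer Γ w := fun {t} _ T htl a ha h3 h4 =>
    h3 fun g hg => (SqF.mem_centralizer_of_lin hO.isNilpotent
      (subgroup_coprime_card_iff.1 (isPGroup_coprime_card T.isPGroup' (coprime_card_of_isPGroup htl hO)) g hg)
      (fun w => h4 w hg) a (mem_pCore hf hn h1 h2 hW hn1 hm ha)).symm
  have := Normal.of_commutator_le _ (hC.trans (le_sup_right (a := (P : Subgroup Γ))))
  have := Normal.of_commutator_le _ (hC.trans (le_sup_right (a := (Q : Subgroup Γ))))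
  obtain ⟨w, hw⟩ := exists_two_dvd (W := Lin (pCore l Γ)) hpq (centralizer (pCore l Γ : Set Γ)) (fun w g hg => MonoidHom.ext fun x => by
    change w.hom (MulAut.conjNormal g⁻¹ x) = w.hom x
    congr 1
    ext
    simp [mul_assoc, hg x x.2]) P Q (key2 P p1 a p3 p4) (key2 Q q1 b q3 q4)
  exact adj_of_lin w hw

end zsig

include hf hn in
theorem exists_count [Group.IsSolvable Γ] [Nontrivial W] {t : ℕ} [ht : Fact t.Prime] (hd : t ∣ Nat.card Γ)
    (h : ∀ w : W, w ≠ 1 → NC t (stabilizer Γ w)) :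
    ∃ d, 0 < d ∧ d < n ∧ s ^ n - 1 = Nat.card (Sylow t Γ) * (s ^ d - 1) := by
  obtain ⟨P⟩ : Nonempty (Sylow t Γ) := inferInstance
  have h1 := count_sub (⊤ : Subgroup W) (fun _ _ _ => mem_top _) (fun w _ => h w) P
  obtain ⟨d, hd1, e⟩ := card_sub hn (FixedPoints.subgroup (P : Subgroup Γ) W)
  rw [top_inf_eq, card_top, e, hn] at h1
  refine ⟨d, Nat.pos_of_ne_zero ?_, hd1.lt_of_ne ?_, h1⟩
  · rintro rfl
    have := Finite.one_lt_card (α := W)
    simp at h1
    omega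
  · rintro rfl
    have h2 := eq_top_of_card_eq _ (e.trans hn.symm)
    exact P.ne_bot_of_dvd_card hd (eq_bot_iff.2 fun g hg => hf g fun w =>
      (h2 ▸ mem_top w : w ∈ FixedPoints.subgroup (P : Subgroup Γ) W) ⟨g, hg⟩)

include hf hs in
theorem nk_faithful [Group.IsSolvable Γ] [Nontrivial W] (hW : ∀ w : W, w ^ s = 1) {p q : ℕ} [hp : Fact p.Prime]
    [hq : Fact q.Prime] (hpq : p ≠ q) (hdp : p ∣ Nat.card Γ) (hdq : q ∣ Nat.card Γ)
    (h : ∀ w : W, w ≠ 1 → NC p (stabilizer Γ w) ∧ NC q (stabilizer Γ w)) : Adj Γ p q := by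
  obtain ⟨n, hn⟩ := IsPGroup.iff_card.1 (show IsPGroup s W from fun w => ⟨1, by rw [pow_one, hW]⟩)
  obtain ⟨w, hw⟩ := exists_ne (1 : W)
  obtain ⟨P⟩ : Nonempty (Sylow p Γ) := inferInstance
  obtain ⟨Q⟩ : Nonempty (Sylow q Γ) := inferInstance
  have hP := (h w hw).1.comm P
  have hQ := (h w hw).2.comm Q
  obtain ⟨c, c1, c2, c3⟩ := exists_count hf hn hdp fun w hw => (h w hw).1
  obtain ⟨d, d1, d2, d3⟩ := exists_count hf hn hdq fun w hw => (h w hw).2
  by_cases h2 : n = 2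
  · subst h2
    have key : ∀ {t : ℕ} [Fact t.Prime] {d : ℕ}, 0 < d → d < 2 →
        s ^ 2 - 1 = Nat.card (Sylow t Γ) * (s ^ d - 1) → t = s := by
      intro t ht d d1 d2 d3
      obtain rfl : d = 1 := by omega
      have h3 := card_sylow_modEq_one t Γ
      rw [pow_one, show s ^ 2 - 1 = (s + 1) * (s - 1) by simpa using Nat.sq_sub_sq s 1] at d3
      rw [← Nat.eq_of_mul_eq_mul_right (by have := hs.out.one_lt; omega) d3] at h3
      exact (Nat.prime_dvd_prime_iff_eq ht.out hs.out).1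
        (by simpa using (Nat.modEq_iff_dvd' (by omega)).1 h3.symm)
    exact (hpq ((key c1 c2 c3).trans (key d1 d2 d3).symm)).elim
  by_cases h6 : s = 2 ∧ n = 6
  · obtain ⟨rfl, rfl⟩ := h6
    have key : ∀ {t : ℕ} [Fact t.Prime] (T : Sylow t Γ),
        (∀ a ∈ (T : Subgroup Γ), ∀ b ∈ (T : Subgroup Γ), a * b = b * a) → ∀ {d : ℕ}, 0 < d → d < 6 →
        2 ^ 6 - 1 = Nat.card (Sylow t Γ) * (2 ^ d - 1) → t = 2 := by
      intro t ht T hT d d1 d2 d3
      have h3 := (Nat.modEq_iff_dvd' Nat.card_pos).1 (card_sylow_modEq_one t Γ).symm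
      have : Fact (Nat.Prime 7) := ⟨by norm_num⟩
      have h4 := exists_pow T hT (l := 7)
      have h5 : ∀ m, 7 ∣ m → m ≤ 63 → Nat.card (Sylow t Γ) = m → t ∣ 48 := fun m m1 m2 m3 => by
        obtain ⟨e, e1, e2, e3⟩ := h4 (m3 ▸ m1)
        have h6 : e < 3 := (Nat.pow_lt_pow_iff_right (a := 7) (by norm_num)).1 (by omega)
        have h7 := (Nat.modEq_iff_dvd' (Nat.one_le_pow _ _ (by norm_num))).1 e3.symm
        interval_cases e
        · exact h7.trans (by norm_num)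
        · exact h7
      have h6 : ∀ k, t ∣ 2 ^ k → t = 2 := fun k hk =>
        (Nat.prime_dvd_prime_iff_eq ht.out Nat.prime_two).1 (ht.out.dvd_of_dvd_pow hk)
      interval_cases d
      · have e : Nat.card (Sylow t Γ) = 63 := by omega
        exact h6 1 (Nat.dvd_gcd (h5 63 (by norm_num) le_rfl e) (show t ∣ 62 by rwa [e] at h3))
      · have e : Nat.card (Sylow t Γ) = 21 := by omega
        exact h6 2 (Nat.dvd_gcd (h5 21 (by norm_num) (by norm_num) e) (show t ∣ 20 by rwa [e] at h3))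
      · have e : Nat.card (Sylow t Γ) = 9 := by omega
        exact h6 3 (by rwa [e] at h3)
      · omega
      · omega
    exact (hpq ((key P hP c1 c2 c3).trans (key Q hQ d1 d2 d3).symm)).elim
  obtain ⟨l, hl, l1, l2⟩ := Spec.zsigmondy hs.out.one_lt (by omega : 1 < n) h6 fun e => h2 e.1
  have := Fact.mk hl
  exact adj_of_zsig hf hn l1 l2 hW (by omega) hpq P Q hP hQ
    (((Nat.Prime.dvd_mul hl).1 (c3 ▸ l1)).resolve_right (l2 c c1 c2))
    (((Nat.Prime.dvd_mul hl).1 (d3 ▸ l1)).resolve_right (l2 d d1 d2))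

include hs in
theorem nk [Group.IsSolvable Γ] (hW : ∀ w : W, w ^ s = 1) {p q : ℕ} [hp : Fact p.Prime]
    [hq : Fact q.Prime] (hpq : p ≠ q) (P : Sylow p Γ) (Q : Sylow q Γ)
    (hP : ¬ ∀ w : W, (P : Subgroup Γ) ≤ stabilizer Γ w) (hQ : ¬ ∀ w : W, (Q : Subgroup Γ) ≤ stabilizer Γ w)
    (h : ∀ w : W, w ≠ 1 → NC p (stabilizer Γ w) ∧ NC q (stabilizer Γ w)) : Adj Γ p q := by
  set f := (MulDistribMulAction.toMulAut Γ W).rangeRestrict
  have hs := (MulDistribMulAction.toMulAut Γ W).rangeRestrict_surjective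
  have := Group.isSolvable_of_surjective hs
  have : Nontrivial W := by
    by_contra e
    have := not_nontrivial_iff_subsingleton.1 e
    exact hP fun w g _ => Subsingleton.elim _ _
  have key : ∀ {t : ℕ} [Fact t.Prime] (T : Sylow t Γ), (¬ ∀ w : W, (T : Subgroup Γ) ≤ stabilizer Γ w) →
      t ∣ Nat.card (MulDistribMulAction.toMulAut Γ W).range := fun {t} ht T hT => by
    by_contra e
    refine hT fun w g hg => ?_
    have h1 : f g ∈ (⊥ : Subgroup _) := by
      rw [← isPGroup_inf_eq_bot_of_coprime (T.isPGroup'.map f) (H := ⊤)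
        (by rw [card_top]; exact ((Nat.Prime.coprime_iff_not_dvd ht.out).2 e).symm)]
      exact ⟨mem_map_of_mem f hg, mem_top _⟩
    exact congrArg (fun x : (MulDistribMulAction.toMulAut Γ W).range => x • w) (mem_bot.1 h1)
  have hst : ∀ w : W, stabilizer (MulDistribMulAction.toMulAut Γ W).range w = (stabilizer Γ w).map f := fun w => by
    ext x
    obtain ⟨g, rfl⟩ := hs x
    exact ⟨fun h => ⟨g, h, rfl⟩, fun ⟨g', h, e⟩ => e ▸ h⟩
  exact (nk_faithful (W := W) (fun g hg => Subtype.ext (MulEquiv.ext hg)) hW hpq (key P hP) (key Q hQ) fun w hw =>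
    hst w ▸ ⟨(h w hw).1.map f hs, (h w hw).2.map f hs⟩).of_surjective f hs

end CfsgLib.Palfy
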