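import Mathlib
import Cfsg.Agent.Lib.Palfy.NK
import Cfsg.Agent.Lib.CharDeep.Gallagher
import Cfsg.Agent.Lib.CharDeep.ProjDet
import Cfsg.Agent.Lib.FullRam.Basic

/-! Inertia groups of extendible characters in a group without a degree divisible by `t r`. -/

set_option autoImplicit false

namespace CfsgLib.Palfy

open Cfsg CfsgLib.Char CfsgLib.CharDeep CfsgLib.ChDeg CfsgLib.RelDeg CfsgLib.Core Subgroup MulAction
open scoped commutatorElement

variable {G : Type*} [Group G] {N H : Subgroup G} [hN : N.Normal]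

theorem exists_proj (hc : IsComplement' N H) :
    ∃ π : G →* H, (∀ h : H, π h = h) ∧ (∀ n ∈ N, π n = 1) ∧ ∀ g, g * (π g : G)⁻¹ ∈ N := by
  let e := hc.symm.QuotientMulEquiv
  have h1 : ∀ h : H, e.symm h = ((h : G) : G ⧸ N) := fun _ => rfl
  refine ⟨e.toMonoidHom.comp (QuotientGroup.mk' N), fun h => e.apply_symm_apply h,
    fun n hn => by simp [(QuotientGroup.eq_one_iff n).2 hn], fun g => ?_⟩
  rw [← QuotientGroup.eq_one_iff, QuotientGroup.mk_mul, QuotientGroup.mk_inv, ← h1]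
  simp

variable [Finite G] (hc : IsComplement' N H) {t r : ℕ} (htr : t.Coprime r) (hA : ¬ Adj G t r)
include hc

theorem relIndex_compl {I : Subgroup G} (hNI : N ≤ I) : (I.subgroupOf H).index = I.index := by
  obtain ⟨π, -, -, h3⟩ := exists_proj hc
  exact FullRam.relIndex_eq_index fun g => ⟨π g, (π g).2, hNI (h3 g)⟩

include htr hA

theorem nc_of_ext {θ : N → ℂ} (hθ : IsIrrCharacter N θ) {I : Subgroup G} (hI : I = inertia N θ) (hNI : N ≤ I)
    {χ : I → ℂ} (hχ : IsCharacter I χ) (he : ∀ n : N, χ ⟨n, hNI n.2⟩ = θ n) (hr : r ∣ I.index * charDegree θ) :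
    NC t (I.subgroupOf H) := by
  have := Fintype.ofFinite G
  have := Fintype.ofFinite N
  have := Fintype.ofFinite I
  obtain ⟨π, h1, h2, h3⟩ := exists_proj hc
  let f : I →* I.subgroupOf H := (π.comp I.subtype).codRestrict _ fun x =>
    inv_mem_iff.1 ((I.mul_mem_cancel_left x.2).1 (hNI (h3 x)))
  have hf : Function.Surjective f := fun y => ⟨⟨y.1, y.2⟩, Subtype.ext (h1 y.1)⟩
  have key : ∀ β, IsIrrCharacter (I.subgroupOf H) β → ¬ t ∣ I.index * charDegree β := fun β hβ hd => by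
    have h4 : ∀ n ∈ N.subgroupOf I, β (f n) = β (f 1) := fun n hn => by
      rw [map_one, show f n = 1 from Subtype.ext (h2 n hn)]
    have h5 := gallagher_isIrr (N.subgroupOf I) hχ (by
      convert isIrr_comp_mulEquiv (subgroupOfEquivOfLe hNI) hθ using 2 with n
      exact he ⟨n, n.2⟩) (isIrr_comp_of_surjective f hf hβ) h4
    have h6 := isIrr_indFun_inertia N I hNI hθ hI h5 (by
      rw [show (fun n : N => ((fun h => β (f h)) * χ) ⟨n, hNI n.2⟩) = β 1 • θ from funext fun n => by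
        simp only [Pi.mul_apply, Pi.smul_apply, smul_eq_mul]
        rw [he, h4 _ n.2, map_one], classInner_smul_left, classInner_irr_self hθ, mul_one]
      exact irr_one_ne_zero hβ)
    refine hA ⟨_, h6, ?_⟩
    rw [deg_ind _ (isCharacter_of_isIrr h5), deg_mul (isCharacter_comp f (isCharacter_of_isIrr hβ)) hχ, deg_comp,
      deg_congr (he 1)]
    exact htr.mul_dvd_of_dvd_of_dvd (hd.trans ⟨charDegree θ, by ring⟩) (hr.trans ⟨charDegree β, by ring⟩)
  refine ⟨fun e => key _ isIrr_one ?_, fun β hβ e => key β hβ (e.mul_left _)⟩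
  rw [relIndex_compl hc hNI] at e
  exact e.mul_right _

theorem nc_of_cop (hcop : (Nat.card N).Coprime N.index) {θ : N → ℂ} (hθ : IsIrrCharacter N θ)
    (hr : r ∣ charDegree θ) : NC t ((inertia N θ).subgroupOf H) := by
  have hNI := le_inertia N (isClassFunction_of_isIrr hθ)
  have h1 := isIrr_comp_mulEquiv (subgroupOfEquivOfLe hNI) hθ
  obtain ⟨δ, hδ⟩ := exists_hom_detChar fun n => θ (subgroupOfEquivOfLe hNI n)
  obtain ⟨χ, h2, h3⟩ := exists_irr_extension_of_det_pow (N.subgroupOf (inertia N θ)) h1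
    (fun g n => (mem_inertia' N).1 g.2 ⟨n, n.2⟩) (d := charDegree θ)
    (by rw [map_one, deg_cast (isCharacter_of_isIrr hθ)]) (Nat.card N)
    (((hcop.mul_left (hcop.coprime_dvd_left (deg_dvd_card hθ))).coprime_dvd_right
      (relIndex_dvd_index_of_le hNI)).symm) 1 fun n => by
      rw [hδ, ← Units.val_pow_eq_pow_val, ← map_pow, ← card_subgroupOf_of_le hNI, pow_card_eq_one', map_one]
      rfl
  exact nc_of_ext hc htr hA hθ rfl hNI (isCharacter_of_isIrr h2) (fun n => h3 ⟨⟨n, hNI n.2⟩, n.2⟩) (hr.mul_left _)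

theorem nc_of_lin (l : Lin N) (hr : r ∣ (stabilizer G l).index) : NC t (stabilizer H l) := by
  obtain ⟨π, h1, h2, h3⟩ := exists_proj hc
  have hNI : N ≤ stabilizer G l := inertia_co l ▸ le_inertia N (isClassFunction_of_isIrr (isIrr_co l))
  obtain ⟨μ, hμ⟩ : ∃ μ : stabilizer G l →* ℂˣ, ∀ x, μ x = l.hom ⟨_, h3 x⟩ := by
    refine ⟨MonoidHom.mk' (fun x => l.hom ⟨_, h3 x⟩) fun x y => ?_, fun _ => rfl⟩
    have h4 : (π x : G)⁻¹ • l = l := ((stabilizer G l).mul_mem_cancel_left x.2).1 (hNI (h3 x))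
    have h5 := smul_hom_apply (π x : G)⁻¹ l ⟨_, h3 y⟩
    rw [h4] at h5
    rw [h5, ← map_mul]
    congr 1
    ext
    simp [mul_assoc]
  have h6 := nc_of_ext hc htr hA (isIrr_co l) (inertia_co l).symm hNI (isCharacter_of_isIrr (isIrr_unitsHom μ))
    (fun n => by
      rw [hμ]
      exact congrArg (fun x => (l.hom x : ℂ)) (Subtype.ext (by simp [h2 n n.2]))) (hr.mul_right _)
  exact h6

end CfsgLib.Palfy
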