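import Mathlib
import Cfsg.Agent.Lib.Palfy.Ext
import Cfsg.Agent.Lib.SolvStruct.Frat

/-! Palfy's three primes theorem: the case of trivial Frattini subgroup. -/

set_option autoImplicit false

namespace CfsgLib.Palfy

open Cfsg CfsgLib.Char CfsgLib.ChDeg CfsgLib.RelDeg CfsgLib.Core Subgroup MulAction
open scoped commutatorElement

variable {G : Type*} [Group G] {N H : Subgroup G} [hN : N.Normal] {t : ℕ}

theorem lin_comm {l : Lin N} {g : G} (h : g • l = l) {x : G} (h1 : x ∈ N) (h2 : ⁅x, g⁆ ∈ N) :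
    l.hom ⟨⁅x, g⁆, h2⟩ = 1 := by
  have h4 : g⁻¹ • l = l := inv_smul_eq_iff.2 h.symm
  have h5 : (⟨⁅x, g⁆, h2⟩ : N) = ⟨x, h1⟩ * (MulAut.conjNormal g⁻¹⁻¹ ⟨x, h1⟩)⁻¹ := by
    ext; simp [commutatorElement_def, mul_assoc]
  rw [h5, map_mul, map_inv, ← smul_hom_apply, h4, mul_inv_cancel]

theorem smul_lin_of_cent {g : G} (hg : g ∈ centralizer (N : Set G)) (l : Lin N) : g • l = l :=
  MonoidHom.ext fun x => by
    change l.hom (MulAut.conjNormal g⁻¹ x) = l.hom x
    congr 1
    ext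
    simp [mul_assoc, hg x x.2]

theorem smul_lin_of_mem {g : G} (hg : g ∈ N) (l : Lin N) : g • l = l :=
  MonoidHom.ext fun x => by
    change l.hom (MulAut.conjNormal g⁻¹ x) = l.hom x
    rw [show MulAut.conjNormal g⁻¹ x = (⟨g, hg⟩ : N)⁻¹ * x * ⟨g, hg⟩ by ext; simp]
    simp

theorem lin_eq_one {l : Lin N} {A : Subgroup G} (h : A ≤ stabilizer G l) (hA : N ≤ ⁅N, A⁆) : l = 1 := by
  have h1 : ⁅N, A⁆ ≤ l.hom.ker.map N.subtype := commutator_le.2 fun x hx g hg =>
    ⟨⟨_, commutator_le_left N ⊤ (commutator_mem_commutator hx (mem_top g))⟩, lin_comm (h hg) hx _, rfl⟩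
  refine MonoidHom.ext fun x => ?_
  obtain ⟨y, hy, e⟩ := h1 (hA x.2)
  rwa [← show y = x from Subtype.ext e]

variable [Finite G] [ht : Fact t.Prime]

omit ht in
theorem cent_of_lin (hc : ⁅N, N⁆ = ⊥) {g : G} (h : ∀ l : Lin N, g • l = l) : g ∈ centralizer (N : Set G) := by
  intro x hx
  have h3 : ⁅x, g⁆ ∈ N := commutator_le_left N ⊤ (commutator_mem_commutator hx (mem_top g))
  by_contra e
  obtain ⟨l, hl⟩ := SqF.exists_lin h3 (by rwa [hc, mem_bot, commutatorElement_eq_one_iff_mul_comm])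
  exact hl (lin_comm (h l) hx h3)

theorem normal_of_quot [Group.IsSolvable G] (hL : N ≤ frattini G) (h : PD t (G ⧸ N)) (P : Sylow t G) :
    (P : Subgroup G).Normal := by
  have h1 := sylow_le_sup_of_quotient N (h.not_dvd_index_pCore PLocal.PSolv.of_isSolvable) P
  have h2 : ((P : Subgroup G) ⊔ N).Normal := h1 ▸ inferInstance
  rw [← normalizer_eq_top_iff]
  apply frattini_nongenerating
  rw [eq_top_iff, ← Sylow.normalizer_sup_eq_top' P (le_sup_left : (P : Subgroup G) ≤ (P : Subgroup G) ⊔ N)]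
  exact sup_le le_sup_left (sup_le_sup le_normalizer hL)

theorem pd_of_compl (hc : IsComplement' N H) (P : Sylow t H) [hP : (P : Subgroup H).Normal]
    (h1 : ∀ a ∈ (P : Subgroup H), ∀ b ∈ (P : Subgroup H), a * b = b * a)
    (h2 : (P : Subgroup H).map H.subtype ≤ centralizer (N : Set G)) (A : Subgroup G) [A.Normal] (hAN : A ≤ N)
    (h3 : A ≤ centralizer (A : Set G)) (h4 : ¬ t ∣ A.relIndex N) : PD t G := by
  set X := (P : Subgroup H).map H.subtype with hX
  have hn : X.Normal := by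
    rw [← normalizer_eq_top_iff, eq_top_iff, ← hc.sup_eq_top]
    exact sup_le ((le_centralizer_iff.1 h2).trans (centralizer_le_normalizer _))
      (le_normalizer_map_subtype_of_normal _)
  have h5 : X ≤ centralizer (X : Set G) := by
    rintro _ ⟨a, ha, rfl⟩ _ ⟨b, hb, rfl⟩
    exact congrArg Subtype.val (h1 b hb a ha)
  have h6 : X ≤ centralizer (A : Set G) := h2.trans (centralizer_le hAN)
  have h7 : X ⊔ A ≤ centralizer ((X ⊔ A : Subgroup G) : Set G) := by
    rw [centralizer_sup]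
    exact sup_le (le_inf h5 h6) (le_inf (le_centralizer_iff.1 h6) h3)
  refine PD.of_comm (X ⊔ A) (fun a ha b hb => (h7 ha b hb).symm) fun e => ?_
  rw [← relIndex_mul_index (le_sup_left : X ⊔ A ≤ X ⊔ A ⊔ N), relIndex_sup_of_normal,
    ← relIndex_compl hc le_sup_right] at e
  rcases (Nat.Prime.dvd_mul ht.out).1 e with e | e
  · exact h4 (e.trans (relIndex_dvd_of_le_left _ le_sup_right))
  · exact P.not_dvd_index (e.trans (index_dvd_of_le fun x hx =>
      mem_sup_left (mem_sup_left (mem_map_of_mem H.subtype hx))))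

omit hN in
theorem normal_of_trivial [Group.IsSolvable G] {W : Type*} [Group W] [MulDistribMulAction G W] {w : W}
    (h : NC t (stabilizer G w)) {P : Sylow t G} (hP : ∀ w : W, (P : Subgroup G) ≤ stabilizer G w) :
    (P : Subgroup G).Normal :=
  h.normal (C := (MulDistribMulAction.toMulAut G W).ker) (fun _ hg => congrArg (fun f : MulAut W => f w) hg)
    fun _ hg => MulEquiv.ext fun w => hP w hg

omit hN ht in
theorem caseII [Group.IsSolvable G] {p q r : ℕ} [hp : Fact p.Prime] [hq : Fact q.Prime] [hr : Fact r.Prime]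
    (hpq : p ≠ q) (hpr : p ≠ r) (hqr : q ≠ r) (hΦ : frattini G = ⊥) (S : Sylow r G)
    (hS : ¬ (S : Subgroup G).Normal) [hK : ((S : Subgroup G) ⊔ fittingSubgroup G).Normal]
    (h1 : ¬ PD p G) (h2 : ¬ PD q G) (h3 : ¬ Adj G p r) (h4 : ¬ Adj G q r) : Adj G p q := by
  have := fittingSubgroup_normal G
  have := isNilpotent_fittingSubgroup G
  set F := fittingSubgroup G with hF
  have hFF : F ≤ centralizer (F : Set G) := by
    rw [← commutator_eq_bot_iff_le_centralizer, eq_bot_iff, ← hΦ, ← map_subtype_commutator]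
    exact (map_mono commutator_le_frattini_of_isNilpotent).trans (map_frattini_le_of_normal F)
  obtain ⟨s, hsr, hs⟩ : ∃ s : Nat.Primes, (s : ℕ) ≠ r ∧
      ¬ pCore s G ≤ centralizer ((S : Subgroup G) : Set G) := by
    by_contra! e
    refine hS (normalizer_eq_top_iff.1 ?_)
    rw [eq_top_iff, ← Sylow.normalizer_sup_eq_top' S (le_sup_left : (S : Subgroup G) ≤ (S : Subgroup G) ⊔ F)]
    refine sup_le le_rfl (sup_le le_normalizer ((fittingSubgroup_eq_iSup_pCore G).le.trans (iSup_le fun u => ?_)))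
    by_cases h : (u : ℕ) = r
    · exact h ▸ (pCore_le_sylow S).trans le_normalizer
    · exact (e u h).trans (centralizer_le_normalizer _)
  have := Fact.mk s.2
  have hO := isPGroup_pCore s G
  set O := pCore s G
  have hOF : O ≤ F := pCore_le_fittingSubgroup s.2
  have hM : ⁅O, (S : Subgroup G) ⊔ F⁆ = ⁅O, (S : Subgroup G)⁆ := by
    refine le_antisymm (commutator_le.2 fun x hx g hg => ?_) (commutator_mono le_rfl le_sup_left)
    rw [← SetLike.mem_coe, mul_normal] at hg
    obtain ⟨a, ha, b, hb, rfl⟩ := hg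
    have h5 : b * x⁻¹ = x⁻¹ * b := (hFF hb _ (hOF (inv_mem hx))).symm
    rw [show ⁅x, a * b⁆ = x * a * (b * x⁻¹) * b⁻¹ * a⁻¹ by group, h5,
      show x * a * (x⁻¹ * b) * b⁻¹ * a⁻¹ = ⁅x, a⁆ by group]
    exact commutator_mem_commutator hx ha
  have hn : (⁅O, (S : Subgroup G)⁆).Normal := hM ▸ inferInstance
  have hMM := Coprime.commutator_commutator_eq (K := O) (A := S) le_normalizer_of_normal
    (isPGroup_coprime_card S.isPGroup' (coprime_card_of_isPGroup hsr.symm hO))
  have hM1 : ⁅O, (S : Subgroup G)⁆ ≠ ⊥ := fun e => hs (commutator_eq_bot_iff_le_centralizer.1 e)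
  have hMO : ⁅O, (S : Subgroup G)⁆ ≤ O := commutator_le_left _ _
  set M := ⁅O, (S : Subgroup G)⁆
  have hMF := hMO.trans hOF
  have hMc : M ≤ centralizer (M : Set G) := hMF.trans (hFF.trans (centralizer_le hMF))
  have : IsMulCommutative M := isMulCommutative_iff_forall.2 fun a ha b hb => (hMc ha b hb).symm
  obtain ⟨J, hc⟩ := SolvStruct.exists_isComplement'_of_inf_frattini M (by rw [hΦ, inf_bot_eq])
  have hW : ∀ l : Lin M, l ^ (s : ℕ) = 1 := fun l => MonoidHom.ext fun x => by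
    have h5 : (x : G) ^ (s : ℕ) ∈ (⊥ : Subgroup G) :=
      hΦ ▸ map_frattini_le_of_normal O (pow_mem_map_frattini hO (hMO x.2))
    change l.hom x ^ (s : ℕ) = 1
    rw [← map_pow, show x ^ (s : ℕ) = 1 from Subtype.ext h5, map_one]
  have hFs : ∀ l : Lin M, F ≤ stabilizer G l := fun l g hg => smul_lin_of_cent (centralizer_le hMF (hFF hg)) l
  have hd : ∀ l : Lin M, l ≠ 1 → r ∣ (stabilizer G l).index := fun l hl =>
    dvd_index_of_moved F S (hFs l) (fun _ => hFs _) fun e => hl (lin_eq_one e hMM.ge)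
  have hMb := commutator_eq_bot_iff_le_centralizer.2 hMc
  obtain ⟨l, hl⟩ : ∃ l : Lin M, l ≠ 1 := by
    obtain ⟨y, hy⟩ := ne_bot_iff_exists_ne_one.1 hM1
    obtain ⟨l, hl⟩ := SqF.exists_lin y.2 (by rw [hMb]; exact fun e => hy (Subtype.ext e))
    exact ⟨l, by rintro rfl; exact hl rfl⟩
  have key : ∀ {t : ℕ} [Fact t.Prime] (T : Sylow t J), t ≠ r → ¬ PD t G → ¬ Adj G t r →
      (∀ l : Lin M, l ≠ 1 → NC t (stabilizer J l)) ∧ ¬ ∀ w : Lin M, (T : Subgroup J) ≤ stabilizer J w := by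
    intro t ht T htr h5 h6
    have h7 := fun l hl => nc_of_lin hc ((Nat.coprime_primes ht.out hr.out).2 htr) h6 l (hd l hl)
    refine ⟨h7, fun e => h5 ?_⟩
    have := normal_of_trivial (h7 l hl) e
    refine pd_of_compl hc T ((h7 l hl).comm T) ?_ M le_rfl hMc (by simpa using ht.out.one_lt.ne')
    rintro _ ⟨g, hg, rfl⟩
    exact cent_of_lin hMb fun w => e w hg
  obtain ⟨P⟩ : Nonempty (Sylow p J) := inferInstance
  obtain ⟨Q⟩ : Nonempty (Sylow q J) := inferInstance
  obtain ⟨π, h5, -⟩ := exists_proj hc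
  exact (nk hW hpq P Q (key P hpr h1 h3).2 (key Q hqr h2 h4).2 fun l hl =>
    ⟨(key P hpr h1 h3).1 l hl, (key Q hqr h2 h4).1 l hl⟩).of_surjective π fun h => ⟨h, h5 h⟩

end CfsgLib.Palfy
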