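import Mathlib
import Cfsg.Agent.Lib.Palfy.Two

/-! Characters of a normal subgroup `R` of class two lying over a character of `R'`. -/

set_option autoImplicit false

namespace CfsgLib.Palfy

open Cfsg CfsgLib.Char CfsgLib.ChDeg CfsgLib.RelDeg CfsgLib.Core Subgroup MulAction
open scoped commutatorElement

variable {G : Type*} [Group G] {R H : Subgroup G} [hR : R.Normal]

/-- Conjugation action on irreducible characters of a normal subgroup. -/
scoped instance irrAct (R : Subgroup G) [R.Normal] : MulAction G (IrrCharacter R) where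
  smul g ξ := ⟨conjChar R g⁻¹ ξ, isIrr_conjChar R _ ξ.2⟩
  one_smul ξ := Subtype.ext (by
    change conjChar R 1⁻¹ _ = _
    rw [inv_one, conjChar_one])
  mul_smul g h ξ := Subtype.ext (by
    change conjChar R _ _ = conjChar R _ (conjChar R _ _)
    rw [conjChar_conjChar, mul_inv_rev])

theorem stab_irr (ξ : IrrCharacter R) : stabilizer G ξ = inertia R ξ.1 := by
  ext g
  rw [← inv_mem_iff (H := inertia R ξ.1), mem_inertia]
  exact Subtype.ext_iff

theorem cle (R : Subgroup G) : ⁅R, R⁆ ≤ R := by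
  rw [← map_subtype_commutator]; exact map_subtype_le _

/-- `θ` lies over `l`. -/
def Ov (θ : R → ℂ) (l : Lin ⁅R, R⁆) : Prop := ∀ z : ↥⁅R, R⁆, θ ⟨z, cle R z.2⟩ = θ 1 * co l z

theorem Ov.conj {θ : R → ℂ} {l : Lin ⁅R, R⁆} (h : Ov θ l) (g : G) : Ov (conjChar R g⁻¹ θ) (g • l) := fun z => by
  rw [conjChar_apply_one]
  exact h (MulAut.conjNormal g⁻¹ z)

omit hR in
theorem Ov.eq {θ : R → ℂ} (hθ : IsIrrCharacter R θ) {l m : Lin ⁅R, R⁆} (h : Ov θ l) (h' : Ov θ m) : l = m :=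
  co_injective (funext fun z => mul_left_cancel₀ (irr_one_ne_zero hθ) ((h z).symm.trans (h' z)))

theorem Ov.le {θ : R → ℂ} (hθ : IsIrrCharacter R θ) {l : Lin ⁅R, R⁆} (h : Ov θ l) :
    inertia R θ ≤ stabilizer G l := fun g hg => by
  have h1 := h.conj g
  rw [(mem_inertia R).1 (inv_mem hg)] at h1
  exact h1.eq hθ h

omit hR in
theorem mem_comm {x : R} : x ∈ _root_.commutator R ↔ (x : G) ∈ ⁅R, R⁆ := by
  rw [← map_subtype_commutator]
  exact ⟨fun h => ⟨x, h, rfl⟩, fun ⟨y, h, e⟩ => (show y = x from Subtype.ext e) ▸ h⟩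

omit hR in
theorem lin_of_mem (m : Lin R) {x : R} (hx : (x : G) ∈ ⁅R, R⁆) : m.hom x = 1 :=
  Abelianization.commutator_subset_ker m.hom (mem_comm.2 hx)

variable [Finite G]

theorem exists_ov (hZ : ⁅R, R⁆ ≤ centralizer (R : Set G)) (l : Lin ⁅R, R⁆) : ∃ θ, IsIrrCharacter R θ ∧ Ov θ l := by
  have := Fintype.ofFinite G
  have := Fintype.ofFinite R
  have := Fintype.ofFinite ↥⁅R, R⁆
  obtain ⟨χ, hχ, h1⟩ := exists_irr_over _ (isIrr_co l)
  obtain ⟨θ, hθ, -, h2⟩ := exists_irr_between' (cle R) (isClassFunction_of_isIrr hχ) h1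
  have h3 := clifford_invariant_le _ R (cle R) hθ (isIrr_co l)
    (fun g hg => inertia_co l ▸ smul_lin_of_cent (le_centralizer_iff.1 hZ hg) l) h2
  refine ⟨θ, hθ, fun z => ?_⟩
  have e1 := congrFun h3 z
  have e2 := congrFun h3 1
  simp only [Pi.smul_apply, smul_eq_mul, co_apply_one, mul_one] at e1 e2
  exact e1.trans (congrArg (· * _) e2.symm)

omit hR in
theorem Ov.trans {θ ψ : R → ℂ} (hθ : IsIrrCharacter R θ) (hψ : IsIrrCharacter R ψ) {l : Lin ⁅R, R⁆}
    (h : Ov θ l) (h' : Ov ψ l) : ∃ m : Lin R, ψ = fun n => co m n * θ n := by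
  have := Fintype.ofFinite R
  have := Fintype.ofFinite (_root_.commutator R)
  have h1 := isCharacter_mul (isCharacter_of_isIrr hψ) (isCharacter_inv (isCharacter_of_isIrr hθ))
  obtain ⟨F, h2, h3, h4, h5⟩ := exists_char_coset_avg h1 (_root_.commutator R)
  have h6 : F 1 ≠ 0 := fun e => by
    have h7 := h4 1
    rw [e, mul_zero, Finset.sum_congr rfl (g := fun _ => ψ 1 * θ 1) fun n _ => by
      have e1 := h' ⟨n, mem_comm.1 n.2⟩
      have e2 := h ⟨n, mem_comm.1 n.2⟩⁻¹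
      simp only [mul_one, Pi.mul_apply]
      refine (congrArg₂ (· * ·) e1 e2).trans ?_
      simp only [co, map_inv, Units.val_inv_eq_inv_val]
      field_simp] at h7
    simp [irr_one_ne_zero hθ, irr_one_ne_zero hψ] at h7
  obtain ⟨η, hη, h7⟩ := exists_irr_constituent h2 h6
  have h8 := h3.trans (cker_le_of_inner_ne_zero h2 hη h7)
  rw [h5 η hη h8] at h7
  obtain ⟨m, rfl⟩ := exists_co (isCharacter_of_isIrr hη) ((deg_eq_one_iff_commutator_le hη).2 h8)
  refine ⟨m, irr_eq_of_classInner_ne_zero hψ (isIrr_co_mul m hθ) ?_⟩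
  rw [classInner_char_eq_sum_inv _ (isCharacter_of_isIrr hη)] at h7
  rw [classInner_char_eq_sum_inv _ (isCharacter_of_isIrr (isIrr_co_mul m hθ))]
  convert h7 using 3 with g
  simp only [Pi.mul_apply]
  ring

omit hR in
theorem card_ov_dvd {θ : R → ℂ} (hθ : IsIrrCharacter R θ) {l : Lin ⁅R, R⁆} (h : Ov θ l) :
    Nat.card {ξ : IrrCharacter R | Ov ξ.1 l} ∣ Nat.card (Lin R) := by
  let _ : MulAction (Lin R) (IrrCharacter R) :=
    { smul := fun m ξ => ⟨fun n => co m n * ξ.1 n, isIrr_co_mul m ξ.2⟩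
      one_smul := fun ξ => Subtype.ext (funext fun n => one_mul _)
      mul_smul := fun a b ξ => Subtype.ext (funext fun n => mul_assoc _ _ _) }
  have h1 : {ξ : IrrCharacter R | Ov ξ.1 l} = orbit (Lin R) (⟨θ, hθ⟩ : IrrCharacter R) := by
    ext ξ
    refine ⟨fun hξ => (h.trans hθ ξ.2 hξ).imp fun m e => Subtype.ext e.symm, ?_⟩
    rintro ⟨m, rfl⟩ z
    change co m _ * θ _ = co m 1 * θ 1 * _
    rw [h z, co_apply_one, co, lin_of_mem m z.2]
    simp
  rw [h1, Nat.card_coe_set_eq, ← index_stabilizer]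
  exact index_dvd_card _

variable {r t : ℕ} [hr : Fact r.Prime] (hp : IsPGroup r R)
include hp

omit hR in
theorem isPGroup_lin : IsPGroup r (Lin R) := fun m => by
  obtain ⟨k, hk⟩ := hp.exists_card_eq
  exact ⟨k, hk ▸ lin_pow_card m⟩

omit hR in
theorem dvd_deg {θ : R → ℂ} (hθ : IsIrrCharacter R θ) (h : ¬ _root_.commutator R ≤ cker θ) : r ∣ charDegree θ :=
  by_contra fun e => h ((deg_eq_one_iff_commutator_le hθ).1 (deg_eq_one_of_isPGroup hp hθ e))

omit hR in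
theorem Ov.dvd {θ : R → ℂ} (hθ : IsIrrCharacter R θ) {l : Lin ⁅R, R⁆} (h : Ov θ l) (hl : l ≠ 1) :
    r ∣ charDegree θ :=
  dvd_deg hp hθ fun e => hl (h.eq hθ fun z => by
    rw [co_one, mul_one]
    exact (mem_cker (isCharacter_of_isIrr hθ)).1 (e (mem_comm.2 z.2)))

variable (hi : ¬ r ∣ R.index) (hc : IsComplement' R H) [ht : Fact t.Prime] (htr : t ≠ r) (hA : ¬ Adj G t r)
include hi hc htr hA

theorem nc_irr {θ : R → ℂ} (hθ : IsIrrCharacter R θ) (h : r ∣ charDegree θ) : NC t ((inertia R θ).subgroupOf H) :=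
  nc_of_cop hc ((Nat.coprime_primes ht.out hr.out).2 htr) hA
    (isPGroup_coprime_card hp ((Nat.Prime.coprime_iff_not_dvd hr.out).2 hi).symm) hθ h

theorem nc_stab [Group.IsSolvable G] (hZ : ⁅R, R⁆ ≤ centralizer (R : Set G)) {l : Lin ⁅R, R⁆} (hl : l ≠ 1) :
    NC t (stabilizer H l) := by
  obtain ⟨θ, hθ, h⟩ := exists_ov hZ l
  have h1 : ∀ ξ : IrrCharacter R, Ov ξ.1 l → (inertia R ξ.1).subgroupOf H ≤ stabilizer H l :=
    fun ξ hξ g hg => hξ.le ξ.2 hg
  have h2 : ∀ ξ : IrrCharacter R, Ov ξ.1 l → NC t (stabilizer (stabilizer H l) ξ) := fun ξ hξ => by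
    have h3 := (nc_irr hp hi hc htr hA ξ.2 (hξ.dvd hp ξ.2 hl)).subgroupOf (h1 ξ hξ)
    rw [← stab_irr] at h3
    exact h3
  obtain ⟨P⟩ : Nonempty (Sylow t (stabilizer H l)) := inferInstance
  have h3 := count {ξ : IrrCharacter R | Ov ξ.1 l} (fun (g : stabilizer H l) ξ hξ => by
    have h4 := Ov.conj hξ ((g : H) : G)
    rw [show ((g : H) : G) • l = l from g.2] at h4
    exact h4) (fun ξ hξ => (h2 ξ hξ).unique) P
  obtain ⟨k, hk⟩ := (isPGroup_lin hp).exists_card_eq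
  have h4 : Nat.card (Sylow t (stabilizer H l)) = 1 := Nat.eq_one_of_dvd_coprimes
    (((Nat.Prime.coprime_iff_not_dvd hr.out).2 hi).pow_left k) (hk ▸ (Dvd.intro _ h3.symm).trans (card_ov_dvd hθ h))
    (P.card_dvd_index.trans ((index_dvd_card _).trans (hc.symm.index_eq_card ▸ card_subgroup_dvd_card _)))
  have := (Nat.card_eq_one_iff_unique.1 h4).1
  have := Sylow.normal_of_subsingleton P
  exact ⟨fun e => (nc_irr hp hi hc htr hA hθ (h.dvd hp hθ hl)).1 (e.trans (index_dvd_of_le (h1 ⟨θ, hθ⟩ h))),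
    PD.of_comm P ((h2 ⟨θ, hθ⟩ h).comm P) P.not_dvd_index⟩

end CfsgLib.Palfy
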