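import Mathlib
import Cfsg.Agent.Lib.Palfy.Ov

/-! Palfy's three primes theorem: the case of a normal nonabelian Sylow subgroup, and the theorem. -/

set_option autoImplicit false

universe u

namespace CfsgLib.Palfy

open Cfsg CfsgLib.Char CfsgLib.ChDeg CfsgLib.RelDeg CfsgLib.Core Subgroup MulAction
open scoped commutatorElement

section one

variable {G : Type*} [Group G] [Finite G] {R H : Subgroup G} [hR : R.Normal]

omit hR in
theorem exists_lin_ne {Z : Subgroup G} (h : ⁅Z, Z⁆ = ⊥) (h1 : Z ≠ ⊥) : ∃ l : Lin Z, l ≠ 1 := by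
  obtain ⟨y, hy⟩ := ne_bot_iff_exists_ne_one.1 h1
  obtain ⟨l, hl⟩ := SqF.exists_lin y.2 (by rw [h]; exact fun e => hy (Subtype.ext e))
  exact ⟨l, by rintro rfl; exact hl rfl⟩

/-- The linear characters trivial on `C`. -/
def triv (R C : Subgroup G) : Subgroup (Lin R) where
  carrier := {m | ∀ x : R, (x : G) ∈ C → m.hom x = 1}
  one_mem' _ _ := rfl
  mul_mem' {a b} ha hb x hx := by
    change a.hom x * b.hom x = 1
    rw [ha x hx, hb x hx, mul_one]
  inv_mem' {a} ha x hx := by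
    change (a.hom x)⁻¹ = 1
    rw [ha x hx, inv_one]

omit hR in
theorem card_lt_triv (hZ : ⁅R, R⁆ ≤ centralizer (R : Set G)) {C : Subgroup G} {x : R}
    (h1 : ∀ θ, IsIrrCharacter R θ → ¬ _root_.commutator R ≤ cker θ → θ x = 0)
    (h2 : ∀ y : R, (y : G) ∈ C → (y : G) * x = x * y) {m : Lin R} (h3 : m ∈ triv R C) (h4 : m.hom x ≠ 1) :
    Nat.card (Lin ⁅R, R⁆) < Nat.card (triv R C) := by
  let c : R →* ↥⁅R, R⁆ := MonoidHom.mk' (fun y => ⟨⁅(y : G), (x : G)⁆, commutator_mem_commutator y.2 x.2⟩)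
    fun y z => Subtype.ext (by
      have h5 := hZ (commutator_mem_commutator z.2 x.2) y y.2
      have h6 := hZ (commutator_mem_commutator z.2 x.2) _ (cle R (commutator_mem_commutator y.2 x.2))
      change ⁅(y : G) * z, (x : G)⁆ = ⁅(y : G), (x : G)⁆ * ⁅(z : G), (x : G)⁆
      rw [h6, show ⁅(y : G) * z, (x : G)⁆ = y * ⁅(z : G), (x : G)⁆ * (y : G)⁻¹ * ⁅(y : G), (x : G)⁆ by group, h5]
      group)
  have hc : Function.Surjective c := fun z => by
    obtain ⟨y, hy⟩ := isConj_iff.1 (isConj_mul_of_forall_eq_zero (_root_.commutator R) h1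
      (n := ⟨z, cle R z.2⟩) (mem_comm.2 z.2))
    exact ⟨y, Subtype.ext (mul_inv_eq_iff_eq_mul.2 (congrArg Subtype.val hy))⟩
  let f : Lin ⁅R, R⁆ → triv R C := fun l => ⟨l.hom.comp c, fun y hy => by
    change l.hom (c y) = 1
    rw [show c y = 1 from Subtype.ext (commutatorElement_eq_one_iff_mul_comm.2 (h2 y hy)), map_one]⟩
  have := Fintype.ofFinite (Lin ⁅R, R⁆)
  have := Fintype.ofFinite (triv R C)
  rw [Nat.card_eq_fintype_card, Nat.card_eq_fintype_card]
  refine Fintype.card_lt_of_injective_of_notMem f (fun a b e => MonoidHom.ext fun z => ?_) (b := ⟨m, h3⟩) ?_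
  · obtain ⟨y, rfl⟩ := hc z
    exact DFunLike.congr_fun (congrArg (fun k : triv R C => k.1.hom) e) y
  · rintro ⟨l, e⟩
    refine h4 ((DFunLike.congr_fun (congrArg (fun k : triv R C => k.1.hom) e) x).symm.trans ?_)
    change l.hom (c x) = 1
    rw [show c x = 1 from Subtype.ext (commutatorElement_self _), map_one]

variable {p q r : ℕ} [hp : Fact p.Prime] [hq : Fact q.Prime] [hr : Fact r.Prime] (hpR : IsPGroup r R)
  (hi : ¬ r ∣ R.index) (hc : IsComplement' R H) (hpr : p ≠ r)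
include hpR hc hpr

theorem exists_moved_lin (P : Sylow p H) [(P : Subgroup H).Normal]
    (h1 : ∀ a ∈ (P : Subgroup H), ∀ b ∈ (P : Subgroup H), a * b = b * a) (h2 : ¬ PD p G) :
    ¬ ∀ m : Lin R, (P : Subgroup H) ≤ stabilizer H m := fun e => by
  have h3 := coprime_card_of_isPGroup hpr hpR
  refine h2 (pd_of_compl hc P h1 ?_ ⊥ bot_le bot_le
    (by rw [relIndex_bot_left]; exact (Nat.Prime.coprime_iff_not_dvd hp.out).1 h3.symm))
  rintro _ ⟨g, hg, rfl⟩
  exact SqF.mem_centralizer_of_lin hpR.isNilpotent (subgroup_coprime_card_iff.1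
    (isPGroup_coprime_card (P.isPGroup'.map H.subtype) h3) _ (mem_map_of_mem _ hg)) fun l => e l hg

variable [Group.IsSolvable G] (hZ : ⁅R, R⁆ ≤ centralizer (R : Set G)) (hZ1 : ⁅R, R⁆ ≠ ⊥) (hqr : q ≠ r) (hpq : p ≠ q)
  (h1 : ¬ PD p G) (h3 : ¬ Adj G p r) (h4 : ¬ Adj G q r)
include hi hZ hZ1 hqr hpq h1 h3 h4

theorem mixed (P : Sylow p H) (Q : Sylow q H) (hP : ∀ l : Lin ⁅R, R⁆, (P : Subgroup H) ≤ stabilizer H l)
    (hQ : ¬ ∀ l : Lin ⁅R, R⁆, (Q : Subgroup H) ≤ stabilizer H l) : Adj G q p := by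
  by_contra h5
  have hZZ : ⁅⁅R, R⁆, ⁅R, R⁆⁆ = ⊥ := commutator_eq_bot_iff_le_centralizer.2 (hZ.trans (centralizer_le (cle R)))
  obtain ⟨l, hl⟩ := exists_lin_ne hZZ hZ1
  have hl1 := nc_stab hpR hi hc hpr h3 hZ hl
  have hn := normal_of_trivial hl1 hP
  have hm := exists_moved_lin hpR hc hpr P (hl1.comm P) h1
  set X := (P : Subgroup H).map H.subtype with hX
  have hXZ : X ≤ centralizer ((⁅R, R⁆ : Subgroup G) : Set G) := by
    rintro _ ⟨g, hg, rfl⟩
    exact cent_of_lin hZZ fun l => hP l hg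
  set C := centralizer (X : Set G)
  have hU : ∀ g : H, ∀ m ∈ triv R C, g • m ∈ triv R C := fun g m hm x hx =>
    hm _ (Coprime.conj_mem_of_le_normalizer (Coprime.le_normalizer_centralizer
      (le_normalizer_map_subtype_of_normal (P : Subgroup H))) (inv_mem g.2) hx)
  have ha : ∀ m ∈ triv R C, (P : Subgroup H) ≤ stabilizer H m → m = 1 := fun m hm e => by
    have h6 : ⁅R, X⁆ ⊔ R ⊓ C ≤ m.hom.ker.map R.subtype := sup_le
      (commutator_le.2 fun x hx g hg => ⟨⟨_, commutator_le_left R ⊤ (commutator_mem_commutator hx (mem_top g))⟩,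
        lin_comm (by obtain ⟨g, hg, rfl⟩ := hg; exact e hg) hx _, rfl⟩)
      fun x hx => ⟨⟨x, hx.1⟩, hm _ hx.2, rfl⟩
    rw [Coprime.commutator_sup_centralizer le_normalizer_of_normal (isPGroup_coprime_card
      (P.isPGroup'.map H.subtype) (coprime_card_of_isPGroup hpr hpR)) (.inl inferInstance)] at h6
    refine MonoidHom.ext fun x => ?_
    obtain ⟨y, hy, e⟩ := h6 x.2
    rwa [← show y = x from Subtype.ext e]
  have hb : ∀ m ∈ triv R C, m ≠ 1 → NC q (stabilizer H m) := fun m hm e => by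
    have : ((P : Subgroup H) ⊔ ⊥).Normal := by rwa [sup_bot_eq]
    refine nc_of_lin hc ((Nat.coprime_primes hq.out hp.out).2 hpq.symm) h5 m ?_
    rw [← relIndex_compl hc fun g hg => smul_lin_of_mem hg m]
    exact dvd_index_of_moved ⊥ P (w := m) bot_le (fun _ => bot_le) fun k => e (ha m hm k)
  have c1 := count_sub _ hU hb Q
  have c2 := count_sub (⊤ : Subgroup (Lin ⁅R, R⁆)) (fun _ _ _ => mem_top _)
    (fun w _ hw => nc_stab hpR hi hc hqr h4 hZ hw) Q
  rw [top_inf_eq, card_top] at c2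
  have hW := isPGroup_lin (hpR.to_le (cle R))
  obtain ⟨a, ea⟩ := ((isPGroup_lin hpR).to_subgroup (triv R C)).exists_card_eq
  obtain ⟨b, eb⟩ := hW.exists_card_eq
  obtain ⟨c, ec⟩ := ((isPGroup_lin hpR).to_subgroup
    (triv R C ⊓ FixedPoints.subgroup (Q : Subgroup H) (Lin R))).exists_card_eq
  obtain ⟨d, ed⟩ := (hW.to_subgroup (FixedPoints.subgroup (Q : Subgroup H) (Lin ⁅R, R⁆))).exists_card_eq
  have hle := pow_le_pow_of_count hr.out (n := Nat.card (Sylow q H)) (fun e => by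
      rw [e, one_mul] at c2
      have h6 := eq_top_of_card_eq (FixedPoints.subgroup (Q : Subgroup H) (Lin ⁅R, R⁆)) (by
        have := Nat.card_pos (α := Lin ⁅R, R⁆)
        have := Nat.card_pos (α := FixedPoints.subgroup (Q : Subgroup H) (Lin ⁅R, R⁆))
        omega)
      exact hQ fun w g hg => (h6 ▸ mem_top w : w ∈ FixedPoints.subgroup (Q : Subgroup H) _) ⟨g, hg⟩)
    (Nat.pos_of_ne_zero (by
      rintro rfl
      have := (Nat.card_eq_one_iff_unique.1 (eb.trans (pow_zero r))).1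
      exact hl (Subsingleton.elim _ _))) (ea ▸ ec ▸ c1) (eb ▸ ed ▸ c2)
  rw [← ea, ← eb] at hle
  push Not at hm
  obtain ⟨m, hm⟩ := hm
  obtain ⟨g, hg, hgm⟩ := SetLike.not_le_iff_exists.1 hm
  have hgX : (g : G) ∈ X := mem_map_of_mem _ hg
  have hm1 : g • m * m⁻¹ ∈ triv R C := fun x hx => by
    change m.hom (MulAut.conjNormal (g : G)⁻¹ x) * (m.hom x)⁻¹ = 1
    rw [show MulAut.conjNormal (g : G)⁻¹ x = x from Subtype.ext (by simp [mul_assoc, ← hx _ hgX]), mul_inv_cancel]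
  obtain ⟨k, hk, hkm⟩ := SetLike.not_le_iff_exists.1 fun e => hgm (mul_inv_eq_one.1 (ha _ hm1 e))
  have hkX : (k : G)⁻¹ ∈ X := inv_mem (mem_map_of_mem _ hk)
  obtain ⟨y, hy⟩ : ∃ y : R, (g • m * m⁻¹).hom (MulAut.conjNormal (k : G)⁻¹ y) ≠ (g • m * m⁻¹).hom y := by
    by_contra! e
    exact hkm (MonoidHom.ext e)
  have hx : (g • m * m⁻¹).hom (y⁻¹ * MulAut.conjNormal (k : G)⁻¹ y) ≠ 1 := by
    rw [map_mul, map_inv, Ne, inv_mul_eq_one]
    exact hy.symm
  refine hle.not_gt (card_lt_triv hZ (fun θ hθ e => ?_) (fun z hz => ?_) hm1 hx)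
  · set x := y⁻¹ * MulAut.conjNormal (k : G)⁻¹ y
    have key : ∀ θ, IsIrrCharacter R θ → r ∣ charDegree θ → θ (MulAut.conjNormal (g : G)⁻¹ x) = θ x :=
      fun θ hθ e => by
        obtain ⟨P', hP'⟩ := exists_sylow_le (nc_irr hpR hi hc hpr h3 hθ e).1
        have := Sylow.unique_of_normal P hn
        rw [Subsingleton.elim P' P] at hP'
        exact (mem_inertia' R).1 (inv_mem (hP' hg)) x
    have h6 := dvd_deg hpR hθ e
    have h7 := key _ (isIrr_co_mul m hθ) (by rwa [deg_co_mul])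
    simp only [key θ hθ h6] at h7
    refine (mul_eq_mul_right_iff.1 h7).resolve_left fun e => hx ?_
    change m.hom (MulAut.conjNormal (g : G)⁻¹ x) * (m.hom x)⁻¹ = 1
    rw [Units.ext e, mul_inv_cancel]
  · have h6 := hXZ hkX _ (commutator_mem_commutator y.2 z.2)
    have h7 := hz _ hkX
    have h8 : (k : G)⁻¹ * y * k * z * ((k : G)⁻¹ * y * k)⁻¹ = y * z * (y : G)⁻¹ := by
      calc _ = (k : G)⁻¹ * ⁅(y : G), (k : G) * z * (k : G)⁻¹⁆ * k * z := by group
        _ = ⁅(y : G), (z : G)⁆ * z := by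
          rw [show (k : G) * z * (k : G)⁻¹ = z by rw [mul_assoc, ← h7]; group, ← h6]; group
        _ = _ := by group
    change (z : G) * ((y : G)⁻¹ * ((k : G)⁻¹ * y * (k : G)⁻¹⁻¹)) = (y : G)⁻¹ * ((k : G)⁻¹ * y * (k : G)⁻¹⁻¹) * z
    rw [inv_inv, mul_assoc (y : G)⁻¹, mul_inv_eq_iff_eq_mul.1 h8]
    group

theorem caseI (hE : ∀ z ∈ ⁅R, R⁆, z ^ r = 1) (h2 : ¬ PD q G) : Adj G p q := by
  obtain ⟨P⟩ : Nonempty (Sylow p H) := inferInstance
  obtain ⟨Q⟩ : Nonempty (Sylow q H) := inferInstance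
  by_cases hP : ∀ l : Lin ⁅R, R⁆, (P : Subgroup H) ≤ stabilizer H l <;>
    by_cases hQ : ∀ l : Lin ⁅R, R⁆, (Q : Subgroup H) ≤ stabilizer H l
  · obtain ⟨l, hl⟩ := exists_lin_ne (commutator_eq_bot_iff_le_centralizer.2 (hZ.trans (centralizer_le (cle R)))) hZ1
    have p1 := nc_stab hpR hi hc hpr h3 hZ hl
    have q1 := nc_stab hpR hi hc hqr h4 hZ hl
    have p2 := normal_of_trivial p1 hP
    have q2 := normal_of_trivial q1 hQ
    have : ((P : Subgroup H) ⊔ ⊥).Normal := by rwa [sup_bot_eq]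
    have : ((Q : Subgroup H) ⊔ ⊥).Normal := by rwa [sup_bot_eq]
    obtain ⟨m, hm⟩ := exists_two_dvd hpq ⊥ (fun _ => bot_le) P Q (exists_moved_lin hpR hc hpr P (p1.comm P) h1)
      (exists_moved_lin hpR hc hqr Q (q1.comm Q) h2)
    refine adj_of_lin m ?_
    rw [← relIndex_compl hc fun g hg => smul_lin_of_mem hg m]
    exact hm
  · exact (mixed hpR hi hc hpr hZ hZ1 hqr hpq h1 h3 h4 P Q hP hQ).symm
  · exact mixed hpR hi hc hqr hZ hZ1 hpr hpq.symm h2 h4 h3 Q P hQ hP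
  obtain ⟨π, h5, -⟩ := exists_proj hc
  refine (nk (s := r) (W := Lin ⁅R, R⁆) (fun l => MonoidHom.ext fun x => ?_) hpq P Q hP hQ fun l hl =>
    ⟨nc_stab hpR hi hc hpr h3 hZ hl, nc_stab hpR hi hc hqr h4 hZ hl⟩).of_surjective π fun h => ⟨h, h5 h⟩
  change l.hom x ^ r = 1
  rw [← map_pow, show x ^ r = 1 from Subtype.ext (hE x x.2), map_one]

end one

variable {p q r : ℕ} [hp : Fact p.Prime] [hq : Fact q.Prime] [hr : Fact r.Prime]

theorem stepI {G : Type*} [Group G] [Finite G] [Group.IsSolvable G] (hpq : p ≠ q) (hpr : p ≠ r) (hqr : q ≠ r)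
    (ih : ∀ (L : Subgroup G) [L.Normal], L ≠ ⊥ → PD p (G ⧸ L) ∨ PD q (G ⧸ L) ∨ PD r (G ⧸ L))
    (h1 : ¬ PD p G) (h2 : ¬ PD q G) (h0 : ¬ PD r G) (h3 : ¬ Adj G p r) (h4 : ¬ Adj G q r) (S : Sylow r G)
    [hS : (S : Subgroup G).Normal] : Adj G p q := by
  have hpR := S.isPGroup'
  have hi := S.not_dvd_index
  set R := (S : Subgroup G)
  have hZ1 : ⁅R, R⁆ ≠ ⊥ := fun e => h0 (PD.of_comm R
    (fun a ha b hb => (commutator_eq_bot_iff_le_centralizer.1 e ha b hb).symm) hi)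
  obtain ⟨H, hc⟩ := exists_right_complement'_of_coprime (N := R)
    (isPGroup_coprime_card hpR ((Nat.Prime.coprime_iff_not_dvd hr.out).2 hi).symm)
  obtain ⟨θ, hθ, hd⟩ : ∃ θ, IsIrrCharacter R θ ∧ r ∣ charDegree θ := by
    by_contra! e
    exact hZ1 (commutator_eq_bot_iff_le_centralizer.2 fun a ha b hb =>
      congrArg Subtype.val (PD.comm_of_isPGroup e hpR ⟨b, hb⟩ ⟨a, ha⟩))
  obtain ⟨π, -, -, h5⟩ := exists_proj hc
  have key : ∀ {t : ℕ} [Fact t.Prime], t ≠ r → ¬ PD t G → ¬ Adj G t r → ∀ (L : Subgroup G) [L.Normal],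
      L ≤ ⁅R, R⁆ → ¬ PD t (G ⧸ L) := by
    intro t ht htr h6 h7 L _ hL h8
    obtain ⟨T⟩ : Nonempty (Sylow t G) := inferInstance
    have := normal_of_quot (hL.trans ((commutator_le_map_frattini hpR).trans (map_frattini_le_of_normal R))) h8 T
    obtain ⟨U, hU⟩ := (T.isPGroup'.map π).exists_le_sylow
    refine h6 (PD.of_comm T (fun a ha b hb => ?_) T.not_dvd_index)
    have h9 := (nc_irr hpR hi hc htr h7 hθ hd).comm U _ (hU (mem_map_of_mem π ha)) _ (hU (mem_map_of_mem π hb))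
    have h10 := h5 ⁅a, b⁆
    rw [map_commutatorElement, commutatorElement_eq_one_iff_mul_comm.2 h9] at h10
    rw [← commutatorElement_eq_one_iff_mul_comm, ← mem_bot,
      ← isPGroup_inf_eq_bot_of_coprime T.isPGroup' (coprime_card_of_isPGroup htr hpR)]
    exact ⟨cle _ (commutator_mem_commutator ha hb), by simpa using h10⟩
  have hmin : ∀ (L : Subgroup G) [L.Normal], L < ⁅R, R⁆ → L = ⊥ := fun L _ hL => by_contra fun e => by
    rcases ih L e with h | h | h
    · exact key hpr h1 h3 L hL.le h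
    · exact key hqr h2 h4 L hL.le h
    refine hL.not_ge (commutator_le.2 fun a ha b hb => ?_)
    have h6 := h.comm_of_pSolvable PLocal.PSolv.of_isSolvable (hpR.map (QuotientGroup.mk' L))
      _ (mem_map_of_mem _ ha) _ (mem_map_of_mem _ hb)
    rwa [← commutatorElement_eq_one_iff_mul_comm, ← map_commutatorElement, QuotientGroup.mk'_apply,
      QuotientGroup.eq_one_iff] at h6
  have := hpR.isNilpotent
  exact caseI hpR hi hc hpr (commutator_eq_bot_iff_le_centralizer.1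
    (hmin _ (commutator_lt_of_isNilpotent (cle R) le_normalizer_of_normal hZ1))) hZ1 hqr hpq h1 h3 h4
    (fun z hz => mem_bot.1 (hmin _ (map_frattini_lt hZ1) ▸ pow_mem_map_frattini (hpR.to_le (cle R)) hz)) h2

theorem palfy_aux (hpq : p ≠ q) (hpr : p ≠ r) (hqr : q ≠ r) (n : ℕ) :
    ∀ (G : Type u) [Group G] [Finite G] [Group.IsSolvable G], Nat.card G = n → ¬ PD p G → ¬ PD q G → ¬ PD r G →
      Adj G p q ∨ Adj G q r ∨ Adj G p r := by
  induction n using Nat.strong_induction_on with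
  | _ n ih0 =>
  intro G _ _ _ hn h1 h2 h3
  by_contra! e
  obtain ⟨a1, a2, a3⟩ := e
  have ih : ∀ (L : Subgroup G) [L.Normal], L ≠ ⊥ → PD p (G ⧸ L) ∨ PD q (G ⧸ L) ∨ PD r (G ⧸ L) := fun L _ hL => by
    by_contra! e
    have hs := QuotientGroup.mk'_surjective L
    rcases ih0 _ (hn ▸ card_quotient_lt_of_ne_bot hL) (G ⧸ L) rfl e.1 e.2.1 e.2.2 with h | h | h
    · exact a1 (h.of_surjective _ hs)
    · exact a2 (h.of_surjective _ hs)
    · exact a3 (h.of_surjective _ hs)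
  obtain ⟨P⟩ : Nonempty (Sylow p G) := inferInstance
  obtain ⟨Q⟩ : Nonempty (Sylow q G) := inferInstance
  obtain ⟨S⟩ : Nonempty (Sylow r G) := inferInstance
  have hS : ¬ (S : Subgroup G).Normal := fun _ => a1 (stepI hpq hpr hqr ih h1 h2 h3 a3 a2 S)
  have hQ : ¬ (Q : Subgroup G).Normal := fun _ => a3 (stepI hpr hpq hqr.symm
    (fun L _ hL => by have := ih L hL; tauto) h1 h3 h2 a1 (fun e => a2 e.symm) Q)
  have hP : ¬ (P : Subgroup G).Normal := fun _ => a2 (stepI hqr hpq.symm hpr.symm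
    (fun L _ hL => by have := ih L hL; tauto) h2 h3 h1 (fun e => a1 e.symm) (fun e => a3 e.symm) P)
  have hΦ : frattini G = ⊥ := by_contra fun e => by
    rcases ih _ e with h | h | h
    · exact hP (normal_of_quot le_rfl h P)
    · exact hQ (normal_of_quot le_rfl h Q)
    · exact hS (normal_of_quot le_rfl h S)
  have : Nontrivial G := by_contra fun e => by
    have := not_nontrivial_iff_subsingleton.1 e
    exact hS ⟨fun a ha g => by rwa [Subsingleton.elim (g * a * g⁻¹) a]⟩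
  have := fittingSubgroup_normal G
  have key : ∀ {t : ℕ} [Fact t.Prime] (T : Sylow t G), PD t (G ⧸ fittingSubgroup G) →
      ((T : Subgroup G) ⊔ fittingSubgroup G).Normal := fun T h =>
    sylow_le_sup_of_quotient _ (h.not_dvd_index_pCore PLocal.PSolv.of_isSolvable) T ▸ inferInstance
  rcases ih _ fittingSubgroup_ne_bot with h | h | h
  · exact a2 (caseII hqr hpq.symm hpr.symm hΦ P hP (hK := key P h) h2 h3 (fun e => a1 e.symm) fun e => a3 e.symm)
  · exact a3 (caseII hpr hpq hqr.symm hΦ Q hQ (hK := key Q h) h1 h3 a1 fun e => a2 e.symm)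
  · exact a1 (caseII hpq hpr hqr hΦ S hS (hK := key S h) h1 h2 a3 a2)

/-- Palfy's three primes theorem. -/
theorem palfy {G : Type*} [Group G] [Finite G] [Group.IsSolvable G] (hpq : p ≠ q) (hpr : p ≠ r) (hqr : q ≠ r)
    (h1 : ¬ PD p G) (h2 : ¬ PD q G) (h3 : ¬ PD r G) : Adj G p q ∨ Adj G q r ∨ Adj G p r :=
  palfy_aux hpq hpr hqr _ G rfl h1 h2 h3

end CfsgLib.Palfy
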